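import Cfsg.Agent.Lib.Sporadic.Fi24Recognition.Count
import Cfsg.Agent.Lib.Sporadic.Fi24Model.Class
import Cfsg.Agent.Lib.ThreeTransp.TypeTwentyFour.Rows
import Cfsg.Agent.Lib.ThreeTransp.TypeTwentyFour.Fixed
import Cfsg.Agent.Lib.ThreeTransp.TypeTwentyFour.Classes
import Cfsg.Agent.Lib.Sporadic.FiTransfer.Transfer
import Cfsg.Agent.Lib.Sporadic.FiTransfer.Involutions.Statement
import Cfsg.Agent.Lib.ThreeTransp.TypeTwentyFour.ClassesModel

/-!
# The group is generated by one component and is of type M(24)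

The component generates a subgroup of type M(24), the stabiliser of the component.  An involution of
the subgroup of index two lying in it commutes with a member of the component, so two members that
centralise non-conjugate involutions lie in one component.
-/

set_option autoImplicit false
set_option maxRecDepth 100000
set_option linter.unusedSectionVars false
set_option linter.style.haveILetI false

open Cfsg.Spor

namespace CfsgLib.Sporadic.Fi24Recognition

open CosetCert CosetCert.Fi23P FischerTransitivity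
open FiTransfer23 (classTr classTr_conj)

variable {G : Type*} [Group G]

/-- Two involutions that are not conjugate commute with a common involution of their subgroup. -/
theorem common_involution [Finite G] {i j : G} (hi : i * i = 1) (hj : j * j = 1)
    (hne : ∀ g : G, g * i * g⁻¹ ≠ j) :
    ∃ q, q ∈ Subgroup.closure ({i, j} : Set G) ∧ q * q = 1 ∧ q ≠ 1 ∧ Commute i q ∧ Commute j q := by
  set r := i * j with hr
  have hir : i * r * i⁻¹ = r⁻¹ := by
    rw [hr, mul_inv_rev, inv_eq_of_mul_eq_one_right hi, inv_eq_of_mul_eq_one_right hj, ← mul_assoc, hi,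
      one_mul]
  have hrn : ∀ n : ℕ, i * r ^ n = (r ^ n)⁻¹ * i := by
    intro n
    rw [← mul_inv_eq_iff_eq_mul, ← conj_pow, hir, inv_pow]
  rcases Nat.even_or_odd' (orderOf r) with ⟨m, hm | hm⟩
  · have hm0 : 0 < m := by have := orderOf_pos r; omega
    have hq : r ^ m * r ^ m = 1 := by rw [← pow_add, ← two_mul, ← hm, pow_orderOf_eq_one]
    have hic : Commute i (r ^ m) := by
      show i * r ^ m = r ^ m * i
      rw [hrn, inv_eq_of_mul_eq_one_right hq]
    refine ⟨r ^ m, pow_mem (mul_mem (Subgroup.subset_closure (Set.mem_insert i {j}))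
      (Subgroup.subset_closure (Set.mem_insert_of_mem i (Set.mem_singleton j)))) m, hq, ?_, hic, ?_⟩
    · exact pow_ne_one_of_lt_orderOf (Nat.ne_of_gt hm0) (by omega)
    · have h := hic.mul_left ((Commute.refl r).pow_right m)
      rwa [hr, ← mul_assoc, hi, one_mul] at h
  · refine absurd ?_ (hne (r ^ m))
    have h := pow_orderOf_eq_one r
    rw [hm, pow_succ, ← eq_inv_iff_mul_eq_one] at h
    have hinv : (r ^ m)⁻¹ * i = i * r ^ m := (hrn m).symm
    calc r ^ m * i * (r ^ m)⁻¹ = r ^ m * i * ((r ^ m)⁻¹ * i) * i := by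
          rw [mul_assoc _ ((r ^ m)⁻¹ * i), mul_assoc (r ^ m)⁻¹, hi, mul_one]
      _ = r ^ m * (i * i) * r ^ m * i := by rw [hinv]; group
      _ = r ^ (2 * m) * i := by rw [hi, mul_one, ← pow_add, ← two_mul]
      _ = j := by
          rw [h, hr, mul_inv_rev, inv_eq_of_mul_eq_one_right hi, inv_eq_of_mul_eq_one_right hj, mul_assoc,
            hi, mul_one]

/-- In a group of type M(24) an involution commutes with a transposition. -/
theorem involution_fixes [Finite G] {D : Set G} (hD : Cfsg.IsThreeTranspositionGroup D)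
    (hprim : Cfsg.IsPrimitiveUnderConj D) (ht : Cfsg.IsOfTypeM24 G D) {x : G} (hx : orderOf x = 2) :
    ∃ a ∈ D, Commute x a := by
  have T := ThreeTransp.TypeTwentyFour.data_of_transfer
    (fun G _ _ D h1 h2 h3 => FiTransfer.modelIso h1 h2 h3) hD hprim ht
  obtain ⟨-, hI, -⟩ := ThreeTransp.TypeTwentyFour.setup hD hprim ht
  have hcl := T.involution_classes hI ThreeTransp.TypeTwentyFour.classesTwentyThree
    (fun x hx => T.fixes_member hD hprim ht (fun G _ _ D h1 h2 h3 => FiTransfer.modelIso h1 h2 h3)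
      (fun H _ _ E h φ hφ => FiTransfer.Involutions.fixes_member h φ hφ) hx)
  obtain ⟨m, hm, -, l, -, hlen, hlD, hcomm, hp⟩ := hcl.1 x hx
  obtain ⟨a, ha⟩ := List.exists_mem_of_length_pos (show 0 < l.length by omega)
  exact ⟨a, hlD a ha, hp ▸ (Commute.list_prod_left l a fun b hb => hcomm b hb a ha)⟩

namespace Local

variable {G₀ : Subgroup G} {φ : Fi23 →* G} {l : G} (S : Local G₀ φ l)
include S

theorem twist_gam {x : Fi23} (hx : x ∈ classTr) : φ x * l ∈ Gam l :=
  S.gam_of_commute (S.frame.mem x hx) (S.frame.twist_comm x).symm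

theorem chart_mem (h : Fi23) : φ h ∈ Subgroup.closure (Gam l) := by
  refine Subgroup.mem_comap.1 ((show Subgroup.closure classTr ≤ (Subgroup.closure (Gam l)).comap φ from
    (Subgroup.closure_le _).2 fun x hx => ?_) (FiTransfer23.Instance.closure_classTr ▸ Subgroup.mem_top h))
  have h1 := mul_mem (Subgroup.subset_closure (S.twist_gam hx)) (Subgroup.subset_closure S.self_gam)
  rwa [mul_assoc, S.frame.sq, mul_one] at h1

variable [Finite G]

theorem gam_stable {g : G} (hg : g ∈ Subgroup.closure (Gam l)) : g * l * g⁻¹ ∈ Gam l := by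
  induction hg using Subgroup.closure_induction with
  | mem a ha =>
    have ha2 := inv_eq_of_mul_eq_one_right (S.frame.member_sq ha.1)
    rw [ha2]
    by_cases hc : Commute l a
    · rw [← hc.eq, mul_assoc, S.frame.member_sq ha.1, mul_one]
      exact S.self_gam
    · have hl2 := inv_eq_of_mul_eq_one_right S.frame.sq
      rw [← (S.braid ha.1 ha.2 hc).2]
      have := S.gam_conj (g := l) (by rw [mul_inv_cancel_right]; exact S.self_gam) ha
      rwa [hl2] at this
  | one => rw [one_mul, inv_one, mul_one]; exact S.self_gam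
  | mul p q _ _ e1 e2 =>
    have := S.gam_conj e1 e2
    rwa [show p * q * l * (p * q)⁻¹ = p * (q * l * q⁻¹) * p⁻¹ by group]
  | inv p _ e1 =>
    have himg : (fun x => p * x * p⁻¹) '' Gam l = Gam l := by
      refine Set.eq_of_subset_of_ncard_le (by rintro _ ⟨x, hx, rfl⟩; exact S.gam_conj e1 hx) ?_
      rw [Set.ncard_image_of_injective _ fun _ _ e => mul_left_cancel (mul_right_cancel e)]
    obtain ⟨x, hx, e⟩ := himg.symm.subset S.self_gam
    rw [inv_inv, show p⁻¹ * l * p = x by rw [← e]; group]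
    exact hx

/-- The component is one class of the subgroup it generates. -/
theorem gam_transitive {a : G} (ha : a ∈ Gam l) :
    ∃ h ∈ Subgroup.closure (Gam l), h * l * h⁻¹ = a := by
  have step : ∀ {p q : G}, p ∈ Gam l → q ∈ Gam l → ¬ Commute p q →
      p * q ∈ Subgroup.closure (Gam l) ∧ p * q * p * (p * q)⁻¹ = q := by
    intro p q hp hq hpq
    refine ⟨mul_mem (Subgroup.subset_closure hp) (Subgroup.subset_closure hq), ?_⟩
    obtain ⟨ψ, S'⟩ := S.at_member hp.1
    have hcl := S.class_eq hp.1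
    obtain ⟨-, b⟩ := S'.braid (hcl.symm ▸ hq.1) (hcl.symm ▸ S.two_all hp hq) hpq
    have p2 := S.frame.member_sq hp.1
    have q2 := S.frame.member_sq hq.1
    rw [mul_inv_rev, inv_eq_of_mul_eq_one_right p2, inv_eq_of_mul_eq_one_right q2]
    calc p * q * p * (q * p) = p * (q * p * q) * p := by group
      _ = (p * p) * q * (p * p) := by rw [← b]; group
      _ = q := by rw [p2, one_mul, mul_one]
  by_cases e : a = l
  · exact ⟨1, one_mem _, by rw [e, one_mul, inv_one, mul_one]⟩
  by_cases hla : Commute l a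
  · obtain ⟨k, hk, hlk⟩ := S.exists_far
    obtain ⟨x, hx, hxk⟩ := Set.not_subset.1 (S.com_ne hk hlk)
    have hxk' : ¬ Commute k (φ x * l) := fun c => hxk ⟨hx, c.symm⟩
    obtain ⟨y, hy, ey⟩ := S.frame.nb a ha.1 hla.symm e
    obtain ⟨g, hg⟩ := FiTransfer23.Instance.conjugate hx hy
    obtain ⟨m1, e1⟩ := step S.self_gam hk hlk
    obtain ⟨m2, e2⟩ := step hk (S.twist_gam hx) hxk'
    refine ⟨φ g * (k * (φ x * l) * (l * k)), mul_mem (S.chart_mem g) (mul_mem m2 m1), ?_⟩
    calc φ g * (k * (φ x * l) * (l * k)) * l * (φ g * (k * (φ x * l) * (l * k)))⁻¹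
        = φ g * (k * (φ x * l) * (l * k * l * (l * k)⁻¹) * (k * (φ x * l))⁻¹) * (φ g)⁻¹ := by group
      _ = φ g * (φ x * l) * (φ g)⁻¹ := by rw [e1, e2]
      _ = a := by rw [S.frame.twist, hg, ey]
  · exact ⟨_, (step S.self_gam ha hla).1, (step S.self_gam ha hla).2⟩

/-- The subgroup generated by the component is its stabiliser. -/
theorem mem_of_gam {g : G} (hg : g * l * g⁻¹ ∈ Gam l) : g ∈ Subgroup.closure (Gam l) := by
  obtain ⟨h, hh, e⟩ := S.gam_transitive hg
  have hc : Commute (h⁻¹ * g) l := by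
    show h⁻¹ * g * l = l * (h⁻¹ * g)
    calc h⁻¹ * g * l = h⁻¹ * (g * l * g⁻¹) * g := by group
      _ = l * (h⁻¹ * g) := by rw [← e]; group
  have hmem : h⁻¹ * g ∈ Subgroup.closure (Gam l) := by
    obtain ⟨p, e1 | e1⟩ := S.frame.cent _ hc <;> rw [e1]
    · exact S.chart_mem p
    · exact mul_mem (S.chart_mem p) (Subgroup.subset_closure S.self_gam)
  simpa using mul_mem hh hmem

/-- The facts on a faithful image of the subgroup generated by the component. -/
theorem facts {G' : Type*} [Group G'] (f : G' →* G) (hf : Function.Injective f) {φ' : Fi23 →* G'}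
    {l' k' : G'} (hφ : ∀ h, f (φ' h) = φ h) (hl : f l' = l) (hk : f k' ∈ Gam l) (hlk : ¬ Commute l (f k'))
    (hcls : ∀ x, x ∈ conjugatesOf l' ↔ f x ∈ Gam l) (hsurj : ∀ y ∈ Gam l, ∃ x, f x = y)
    (hgen : Subgroup.closure (conjugatesOf l') = ⊤) : Fi24Model.Facts φ' l' k' := by
  have hcomm : ∀ {a b : G'}, Commute (f a) (f b) → Commute a b := fun {a b} h => hf (by
    rw [map_mul, map_mul]; exact h.eq)
  refine
    { l_sq := hf (by rw [map_mul, hl, S.frame.sq, map_one])
      l_ne := fun e => S.frame.not_mem ⟨1, by rw [← hl, e, map_one, map_one]⟩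
      inj := fun a b e => S.frame.inj (by rw [← hφ, ← hφ, e])
      comm := fun h => hcomm (by rw [hφ, hl]; exact S.frame.comm h)
      not_mem := fun ⟨h, e⟩ => S.frame.not_mem ⟨h, by rw [← hφ, e, hl]⟩
      cent := fun g hg => ?_
      gen := hgen
      orbits := fun x hx => ?_
      tr_mem := (hcls _).2 (by rw [map_mul, hφ, hl]; exact S.twist_gam classTr_mem)
      k_mem := (hcls _).2 hk
      not_commute := fun h => hlk (hl ▸ h.map f)
      braid := hf (by rw [map_pow, map_mul, hl, map_one]; exact (S.braid hk.1 hk.2 hlk).1)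
      card := ?_ }
  · obtain ⟨h, e | e⟩ := S.frame.cent (f g) (hl ▸ hg.map f)
    · exact ⟨h, Or.inl (hf (by rw [e, hφ]))⟩
    · exact ⟨h, Or.inr (hf (by rw [e, map_mul, hφ, hl]))⟩
  · have hx' := (hcls x).1 hx
    by_cases e : f x = l
    · exact Or.inl (hf (e.trans hl.symm))
    refine Or.inr ?_
    by_cases hc : Commute l (f x)
    · obtain ⟨y, hy, ey⟩ := S.frame.nb (f x) hx'.1 hc.symm e
      obtain ⟨h, rfl⟩ := FiTransfer23.Instance.conjugate classTr_mem hy
      exact Or.inl ⟨h, hf (by rw [ey, ← S.frame.twist, map_mul, map_mul, map_mul, map_inv, hφ, hφ, hl])⟩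
    · obtain ⟨h, e1⟩ := S.trans_far hk hx' hlk hc
      exact Or.inr ⟨h, hf (by rw [map_mul, map_mul, map_inv, hφ, e1])⟩
  · rw [← (S.params hk hlk).1, ← Set.ncard_image_of_injective _ hf]
    congr 1
    ext y
    exact ⟨fun ⟨x, hx, e⟩ => e ▸ (hcls x).1 hx, fun hy => by
      obtain ⟨x, rfl⟩ := hsurj y hy
      exact ⟨x, (hcls x).2 hy, rfl⟩⟩

theorem type_of_facts {G' : Type*} [Group G'] [Finite G'] (f : G' →* G) (hf : Function.Injective f)
    {φ' : Fi23 →* G'} {l' k' : G'} (hφ : ∀ h, f (φ' h) = φ h) (hl : f l' = l) (hk : f k' ∈ Gam l)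
    (hlk : ¬ Commute l (f k')) (F : Fi24Model.Facts φ' l' k') :
    Cfsg.IsOfTypeM24 G' (conjugatesOf l') := by
  obtain ⟨g, hg⟩ := (S.params hk hlk).2
  refine F.isOfTypeM24 g fun a ha => ?_
  rw [← (Fi23Tri.isDSubgroup_L : Subgroup.closure _ = Fi23Tri.L)] at ha
  refine ((Subgroup.closure_le (F.pairStab.comap (MulAut.conj g).toMonoidHom)).2 ?_) ha
  intro x hx
  refine Or.inr ?_
  have h := (hg.symm.subset ⟨x, hx, rfl⟩).2
  suffices key : ∀ c : Fi23, Commute (φ c * l) (f k') → Commute k' (φ' c * l') from key _ h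
  intro c hc
  refine hf ?_
  rw [map_mul f k', map_mul f (φ' c * l'), map_mul f (φ' c), hφ, hl]
  exact hc.symm.eq

/-- An involution in the stabiliser of the component commutes with one of its members. -/
theorem fixes {x : G} (hx : x ∈ Subgroup.closure (Gam l)) (hx2 : x * x = 1) (hx1 : x ≠ 1) :
    ∃ a ∈ Gam l, Commute x a := by
  set H := Subgroup.closure (Gam l) with hH
  obtain ⟨k, hk, hlk⟩ := S.exists_far
  set φ' : Fi23 →* ↥H := φ.codRestrict H S.chart_mem
  set l' : ↥H := ⟨l, Subgroup.subset_closure S.self_gam⟩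
  set k' : ↥H := ⟨k, Subgroup.subset_closure hk⟩
  have hcls : ∀ y, y ∈ conjugatesOf l' ↔ H.subtype y ∈ Gam l := by
    intro y
    constructor
    · intro hy
      obtain ⟨g, rfl⟩ := isConj_iff.1 hy
      exact S.gam_stable g.2
    · intro hy
      obtain ⟨h, hh, e⟩ := S.gam_transitive hy
      exact isConj_iff.2 ⟨⟨h, hh⟩, Subtype.ext e⟩
  have hgen : Subgroup.closure (conjugatesOf l') = ⊤ := by
    rw [eq_top_iff]
    have hle : H ≤ (Subgroup.closure (conjugatesOf l')).map H.subtype :=
      (Subgroup.closure_le _).2 fun y hy =>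
        ⟨⟨y, Subgroup.subset_closure hy⟩, Subgroup.subset_closure ((hcls _).2 hy), rfl⟩
    intro y _
    obtain ⟨y', hy', e⟩ := hle y.2
    exact Subtype.ext e ▸ hy'
  have F := S.facts H.subtype H.subtype_injective (φ' := φ') (l' := l') (k' := k') (fun _ => rfl) rfl hk hlk
    hcls (fun y hy => ⟨⟨y, Subgroup.subset_closure hy⟩, rfl⟩) hgen
  have ht := S.type_of_facts H.subtype H.subtype_injective (φ' := φ') (l' := l') (k' := k') (fun _ => rfl)
    rfl hk hlk F
  have hx' : orderOf (⟨x, hx⟩ : ↥H) = 2 := by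
    haveI := Fact.mk Nat.prime_two
    exact orderOf_eq_prime (Subtype.ext (by rw [SubgroupClass.coe_pow, pow_two]; exact hx2))
      fun e => hx1 (congrArg Subtype.val e)
  obtain ⟨a, ha, hc⟩ := involution_fixes F.isGroup F.isPrimitive ht hx'
  exact ⟨a, (hcls a).1 ha, congrArg Subtype.val hc.eq⟩

/-- The main result: the class of `l` generates, as a class of 3-transpositions of type M(24). -/
theorem recognise {i j : G} (hi : i ∈ G₀) (hj : j ∈ G₀) (hi2 : i * i = 1) (hj2 : j * j = 1)
    (hi1 : i ≠ 1) (hj1 : j ≠ 1) (hil : Commute i l) (hjl : Commute j l)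
    (hne : ∀ g : G, g * i * g⁻¹ ≠ j) :
    ∃ E : Set G, Cfsg.IsThreeTranspositionClass E ∧ Cfsg.IsPrimitiveUnderConj E ∧ Cfsg.IsOfTypeM24 G E := by
  have key : ∀ {u q : G}, u ∈ G₀ → u * u = 1 → u ≠ 1 → Commute u l → Commute q u →
      q ∈ Subgroup.closure (Gam l) := by
    intro u q hu hu2 hu1 hul hqu
    refine S.mem_of_gam ⟨S.frame.conj_mem S.self_mem q, ?_⟩
    refine S.near u hu hu2 hu1 l S.self_mem _ (S.frame.conj_mem S.self_mem q) hul ?_
    have := (Commute.conj_iff q).2 hul
    rwa [hqu.eq, mul_inv_cancel_right] at this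
  have hall : ∀ g : G, g * l * g⁻¹ ∈ Gam l := by
    intro g
    set j' := g * j * g⁻¹ with hj'
    obtain ⟨q, hq, hq2, hq1, hiq, hjq⟩ := common_involution hi2
      (show j' * j' = 1 by rw [hj', show g * j * g⁻¹ * (g * j * g⁻¹) = g * (j * j) * g⁻¹ by group, hj2,
        mul_one, mul_inv_cancel])
      fun x e => hne (g⁻¹ * x) (by
        calc g⁻¹ * x * i * (g⁻¹ * x)⁻¹ = g⁻¹ * (x * i * x⁻¹) * g := by group
          _ = j := by rw [e, hj']; group)
    have hqG : q ∈ G₀ := (Subgroup.closure_le G₀).2 (by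
      rintro y (rfl | rfl)
      exacts [hi, S.normal.conj_mem j hj g]) hq
    obtain ⟨a, ha, haq⟩ := S.fixes (key hi hi2 hi1 hil hiq.symm) hq2 hq1
    set q' := g⁻¹ * q * g with hq'
    have hback : g * q' * g⁻¹ = q := by rw [hq']; group
    have hjq' : Commute j q' := (Commute.conj_iff g).1 (by rwa [hback])
    obtain ⟨b, hb, hbq⟩ := S.fixes (key hj hj2 hj1 hjl hjq'.symm)
      (show q' * q' = 1 by rw [hq', show g⁻¹ * q * g * (g⁻¹ * q * g) = g⁻¹ * (q * q) * g by group, hq2]; group)
      (fun e => hq1 (by rw [← hback, e, mul_one, mul_inv_cancel]))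
    have hbm := S.frame.conj_mem hb.1 g
    have hbq' : Commute q (g * b * g⁻¹) := hback ▸ (Commute.conj_iff g).2 hbq
    have hbg : g * b * g⁻¹ ∈ Gam l :=
      ⟨hbm, S.two_trans ha.1 hbm ha.2 (S.near q hqG hq2 hq1 a ha.1 _ hbm haq hbq')⟩
    exact ⟨S.frame.conj_mem S.self_mem g,
      S.two_trans hbg.1 (S.frame.conj_mem S.self_mem g) hbg.2 (S.two_conj hb.2 g).symm⟩
  have htop : Subgroup.closure (Gam l) = ⊤ := eq_top_iff.2 fun g _ => S.mem_of_gam (hall g)
  have hGam : conjugatesOf l = Gam l := by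
    refine Set.Subset.antisymm (fun x hx => ?_) fun x hx => hx.1
    obtain ⟨g, rfl⟩ := isConj_iff.1 hx
    exact hall g
  obtain ⟨k, hk, hlk⟩ := S.exists_far
  have F := S.facts (MonoidHom.id G) (fun _ _ e => e) (φ' := φ) (l' := l) (k' := k) (fun _ => rfl) rfl hk
    hlk (fun x => by rw [hGam]; rfl) (fun y _ => ⟨y, rfl⟩) (by rw [hGam]; exact htop)
  exact ⟨conjugatesOf l, F.isClass, F.isPrimitive,
    S.type_of_facts (MonoidHom.id G) (fun _ _ e => e) (fun _ => rfl) rfl hk hlk F⟩

end Local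

end CfsgLib.Sporadic.Fi24Recognition
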