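import Cfsg.Agent.Lib.Sporadic.Fi24Recognition.Near
import Cfsg.Agent.Lib.Sporadic.Fi24Recognition.Recognise
import Cfsg.Agent.Lib.Sporadic.LargeFischerOuter.Assembly

/-!
# The extension of a group of large Fischer type is of type M(24)
-/

set_option autoImplicit false
set_option maxRecDepth 100000
set_option linter.unusedSectionVars false
set_option linter.style.haveILetI false

open Cfsg.Spor

namespace CfsgLib.Sporadic.Fi24Recognition

open LargeFischer LargeFischerOuter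
open CosetCert.Fi23P (tr)
open FiTransfer23 (classTr classTr_conj)

variable {X : Type*} [Group X]

/-- A member in the index two subgroup's terms. -/
theorem member_eq {G₀ : Subgroup X} [G₀.Normal] {d : X} (hd : d * d = 1) (g : ↥G₀) :
    (g : X) * d * (g : X)⁻¹ = (nu (MulAut.conjNormal d) g : ↥G₀) * d := by
  have hdi : d⁻¹ = d := inv_eq_of_mul_eq_one_right hd
  rw [nu, Subgroup.coe_mul, InvMemClass.coe_inv, MulAut.conjNormal_apply, hdi, mul_inv_rev, mul_inv_rev, hdi]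
  calc (g : X) * d * (g : X)⁻¹ = (g : X) * d * (g : X)⁻¹ * (d * d) := by rw [hd, mul_one]
    _ = (g : X) * (d * ((g : X)⁻¹ * d)) * d := by group

/-- Commuting with the outer involution is being fixed by it. -/
theorem commute_iff_fixed {G₀ : Subgroup X} [G₀.Normal] {d : X} (a : ↥G₀) :
    Commute (a : X) d ↔ MulAut.conjNormal d a = a := by
  rw [Subtype.ext_iff, MulAut.conjNormal_apply, mul_inv_eq_iff_eq_mul]
  exact eq_comm

/-- The members are the conjugates under the subgroup of index two. -/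
theorem member_of_mem {G₀ : Subgroup X} (hidx : G₀.index = 2) {d : X} (hd : d ∉ G₀) {e : X}
    (he : e ∈ conjugatesOf d) : ∃ g : ↥G₀, (g : X) * d * (g : X)⁻¹ = e := by
  obtain ⟨x, rfl⟩ := isConj_iff.1 he
  by_cases hx : x ∈ G₀
  · exact ⟨⟨x, hx⟩, rfl⟩
  · exact ⟨⟨x * d, (Subgroup.mul_mem_iff_of_index_two hidx).2 (iff_of_false hx hd)⟩, by
      show x * d * d * (x * d)⁻¹ = x * d * x⁻¹
      group⟩

variable [Finite X]

theorem local_of_side {G₀ : Subgroup X} [G₀.Normal] (hidx : G₀.index = 2) {z t : ↥G₀} {d : X} (hd : d * d = 1)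
    (hdG : d ∉ G₀) {Q : Subgroup (Subgroup.centralizer ({z} : Set ↥G₀))} [Q.Normal] {π : ↥G₀ → V6}
    {ψ : ↥(Subgroup.centralizer ({z} : Set ↥G₀)) →* (V6 ≃ₗ[ZMod 2] V6)}
    {c : ↥(Subgroup.centralizer ({z} : Set ↥G₀))} {φ : Fi23 →* ↥G₀}
    (S : Side z t Q π ψ (MulAut.conjNormal d) c φ) : Local G₀ (G₀.subtype.comp φ) d := by
  have hcomm : ∀ h, Commute (φ h : X) d := fun h => (commute_iff_fixed _).2 (S.fix_chart h)
  refine ⟨⟨hd, G₀.subtype_injective.comp S.inj, hcomm, fun g hg => ?_, ?_, fun e he hc hne => ?_,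
    fun x hx => ?_⟩, inferInstance, fun h => (φ h).2, ?_⟩
  · by_cases hgG : g ∈ G₀
    · obtain ⟨h, e⟩ := (S.fix_iff ⟨g, hgG⟩).1 ((commute_iff_fixed _).1 hg)
      exact ⟨h, Or.inl (congrArg Subtype.val e).symm⟩
    · have hm : g * d ∈ G₀ := (Subgroup.mul_mem_iff_of_index_two hidx).2 (iff_of_false hgG hdG)
      obtain ⟨h, e⟩ := (S.fix_iff ⟨g * d, hm⟩).1 ((commute_iff_fixed _).1 (hg.mul_left (Commute.refl d)))
      refine ⟨h, Or.inr ?_⟩
      show g = (φ h : X) * d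
      rw [show (φ h : X) = g * d from congrArg Subtype.val e, mul_assoc, hd, mul_one]
  · rintro ⟨h, e⟩
    exact hdG (e ▸ (φ h).2)
  · obtain ⟨g, rfl⟩ := member_of_mem hidx hdG he
    rw [member_eq hd] at hc hne ⊢
    have hc' := hc.mul_left (Commute.refl d)
    rw [mul_assoc, hd, mul_one] at hc'
    obtain ⟨x, hx, ex⟩ := S.nu_fixed_tr ((commute_iff_fixed _).1 hc') fun e => hne (by
      rw [e, OneMemClass.coe_one, one_mul])
    exact ⟨x, hx, by rw [← ex]; rfl⟩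
  · obtain ⟨g, hg⟩ := S.twist_occurs hx
    refine isConj_iff.2 ⟨(g : X), ?_⟩
    rw [member_eq hd, hg]; rfl
  · intro i hi hi2 hi1 a ha b hb hia hib
    obtain ⟨g, rfl⟩ := member_of_mem hidx hdG ha
    obtain ⟨g', rfl⟩ := member_of_mem hidx hdG hb
    have key : ∀ g : ↥G₀, Commute i ((g : X) * d * (g : X)⁻¹) →
        MulAut.conjNormal d (g⁻¹ * ⟨i, hi⟩ * g) = g⁻¹ * ⟨i, hi⟩ * g := fun g hg => by
      refine (commute_iff_fixed _).1 ((Commute.conj_iff (g : X)).1 ?_)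
      rw [show (g : X) * ((g⁻¹ * ⟨i, hi⟩ * g : ↥G₀) : X) * (g : X)⁻¹ = i by
        simp only [Subgroup.coe_mul, InvMemClass.coe_inv]; group]
      exact hg
    obtain ⟨f, h1, h2⟩ := S.near (i := ⟨i, hi⟩) (Subtype.ext hi2) (fun e => hi1 (congrArg Subtype.val e))
      (key g hia) (key g' hib)
    have rel : ∀ g : ↥G₀, Rel (MulAut.conjNormal d) g f →
        Commute ((g : X) * d * (g : X)⁻¹) ((f : X) * d * (f : X)⁻¹) := fun g hr => by
      have hx : Commute d ((↑(g⁻¹ * f) : X) * d * (↑(g⁻¹ * f) : X)⁻¹) := by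
        rw [member_eq hd]
        exact ((commute_iff_fixed _).2 hr).symm.mul_right (Commute.refl d)
      have := (Commute.conj_iff (g : X)).2 hx
      rwa [show (g : X) * ((↑(g⁻¹ * f) : X) * d * (↑(g⁻¹ * f) : X)⁻¹) * (g : X)⁻¹ = (f : X) * d * (f : X)⁻¹ by
        simp only [Subgroup.coe_mul, InvMemClass.coe_inv]; group] at this
    exact ⟨_, isConj_iff.2 ⟨(f : X), rfl⟩, rel g h1, (rel g' h2).symm⟩

/-- The statement, given the centraliser of a non-central involution. -/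
theorem type_of_noncentral (G₀ : Subgroup X) (hidx : G₀.index = 2) (z : ↥G₀)
    (Q : Subgroup (Subgroup.centralizer ({z} : Set ↥G₀))) [Q.Normal] (hF : Cfsg.IsOfLargeFischerTypeAt z Q)
    (hcentral : ∃ P : Sylow 2 ↥G₀, z ∈ (P : Subgroup ↥G₀) ∧ ∀ x ∈ (P : Subgroup ↥G₀), Commute x z)
    (hFX : (Cfsg.generalizedFittingSubgroup ↥(Subgroup.centralizer ({(z : X)} : Set X))).map (Subgroup.subtype _) =
      ((Q.map (Subgroup.subtype _)).map G₀.subtype))
    (h50 : NoncentralCentralizer z Q) :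
    ∃ E : Set X, Cfsg.IsThreeTranspositionClass E ∧ Cfsg.IsPrimitiveUnderConj E ∧
      Cfsg.IsOfTypeM24 X E := by
  haveI : G₀.Normal := Subgroup.normal_of_index_eq_two hidx
  haveI := CfsgLib.Sporadic.CosetCert.FiP.finite
  obtain ⟨g₀, ⟨hq₀, hgQ₀⟩, hne₀⟩ := hF.1.2.2.2.2
  have hu : g₀ * z * g₀⁻¹ ∈ qImg Q := mem_qImg.2 ⟨hq₀, hgQ₀⟩
  obtain ⟨π, ψ, h⟩ := exists_lf z Q hF
  obtain ⟨t, htQ, ht2, hn⟩ := exists_noncentral h
  obtain ⟨K, hT, hq, hK, htK, ⟨e⟩⟩ := h50 t (mem_qImg.1 htQ) ht2 hn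
  haveI := hT
  obtain ⟨d, hO, hA⟩ := exists_outer_involution G₀ hidx z Q hF hcentral hFX t htQ ht2 hn K hq hK htK e
  have hTK : (Subgroup.zpowers t).subgroupOf (Subgroup.centralizer ({t} : Set ↥G₀)) ≤ K := by
    obtain ⟨htc, htK⟩ := htK
    intro a ha
    obtain ⟨i, hi⟩ := Subgroup.mem_subgroupOf.1 ha
    have e1 : a = ⟨t, htc⟩ ^ i := Subtype.ext (by rw [Subgroup.coe_zpow]; exact hi.symm)
    exact e1 ▸ zpow_mem htK i
  obtain ⟨f, σ, hcov⟩ := exists_cover K _ hTK hK hq e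
  obtain ⟨tY, htY, htY2, hqY, ⟨hnY, hiso⟩, hnwc⟩ := centralizer_model hO ht2 hq hcov.σ_surj hcov.σ_ker
  haveI := hnY
  obtain ⟨ε, hε⟩ := Fi23Centralizer.modelIso tY htY2 hqY hiso hnwc
  obtain ⟨g, hg⟩ := FiTransfer23.Instance.conjugate classTr_mem
    (hε.subset ⟨tY, mem_conjugatesOf_self, rfl⟩)
  let φ : Fi23 →* ↥G₀ :=
    (Subgroup.inclusion (inf_le_left : G₀ ⊓ Subgroup.centralizer ({d} : Set X) ≤ G₀)).comp (ε.symm.toMonoidHom.comp (MulAut.conj g).toMonoidHom)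
  have hval : ∀ h, (φ h : X) = (ε.symm (g * h * g⁻¹) : X) := fun _ => rfl
  have hφt : φ tr = t := Subtype.ext (by rw [hval, hg, ε.symm_apply_apply, htY])
  have hinj : Function.Injective φ := (Subgroup.inclusion_injective (inf_le_left : G₀ ⊓ Subgroup.centralizer ({d} : Set X) ≤ G₀)).comp
    (ε.symm.injective.comp (MulAut.conj g).injective)
  have hfix : ∀ y : ↥G₀, MulAut.conjNormal d y = y ↔ y ∈ φ.range := by
    intro y
    constructor
    · intro hy
      obtain ⟨p, hp⟩ := ((MulAut.conj g).trans ε.symm).surjective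
        ⟨(y : X), y.2, Subgroup.mem_centralizer_singleton_iff.2 ((commute_iff_fixed _).2 hy).eq⟩
      exact ⟨p, Subtype.ext (congrArg (fun a : ↥(G₀ ⊓ Subgroup.centralizer ({d} : Set X)) => (a : X)) hp)⟩
    · rintro ⟨p, rfl⟩
      exact (commute_iff_fixed _).1 (Subgroup.mem_centralizer_singleton_iff.1 (ε.symm (g * p * g⁻¹)).2.2)
  obtain ⟨hq0, hv0⟩ := h.π_involution htQ ht2 hA.t_ne_z
  have horb : π t ∈ h.model.orb c2 := by
    rcases h.model.two_orbits.2.2.2.1 _ hq0 hv0 with e1 | e1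
    · exact e1 ▸ h.model.self_mem _
    · exfalso
      obtain ⟨k, ⟨c, rfl⟩, hk⟩ := h.model.mem_orb.1 (show π t ∈ h.model.orb (π (g₀ * z * g₀⁻¹)) by
        rw [h.fused_orbit hu hne₀, ← e1]; exact h.model.self_mem _)
      obtain ⟨m, hm⟩ := h.conj_of_π hu htQ hv0 c hk
      exact hn (isConj_iff.2 ⟨(m : ↥G₀) * g₀, by rw [← hm]; group⟩)
  obtain ⟨w, hw⟩ := exists_fixed h hu hne₀ hA
  have hinv : ∀ y : ↥G₀, MulAut.conjNormal d (MulAut.conjNormal d y) = y := fun y => Subtype.ext (by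
    rw [MulAut.conjNormal_apply, MulAut.conjNormal_apply, inv_eq_of_mul_eq_one_right hO.sq,
      show d * (d * (y : X) * d) * d = d * d * (y : X) * (d * d) by group, hO.sq, one_mul, mul_one])
  have S : Side z t Q π ψ (MulAut.conjNormal d) w φ := ⟨h, hA, hw, horb, hinv, hinj, hfix, hφt, hn⟩
  have L := local_of_side hidx hO.sq hO.out S
  have hzd : Commute (z : X) d := hO.comm_z.symm
  have htd : Commute (t : X) d := (commute_iff_fixed t).2 hA.fix_t
  have hne1 : ∀ a : ↥G₀, a ≠ 1 → (a : X) ≠ 1 := fun a ha e1 => ha (Subtype.ext e1)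
  refine L.recognise z.2 t.2 ?_ ?_ (hne1 z h.extra.z_ne) (hne1 t hA.t_ne_one) hzd htd fun x hx => ?_
  · exact congrArg Subtype.val h.extra.z_sq
  · exact congrArg Subtype.val hA.t_sq
  by_cases hxG : x ∈ G₀
  · exact hn (isConj_iff.2 ⟨⟨x, hxG⟩, Subtype.ext hx⟩)
  · refine hn (isConj_iff.2 ⟨⟨x * d, (Subgroup.mul_mem_iff_of_index_two hidx).2 (iff_of_false hxG hO.out)⟩,
      Subtype.ext ?_⟩)
    show x * d * z * (x * d)⁻¹ = t
    rw [mul_assoc x d, ← hzd.eq, show x * ((z : X) * d) * (x * d)⁻¹ = x * z * x⁻¹ by group, hx]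

end CfsgLib.Sporadic.Fi24Recognition
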