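import Cfsg.Agent.Lib.Sporadic.Fi24Recognition.Distance

/-!
# The component of a member: transitivity and the neighbourhoods
-/

set_option autoImplicit false
set_option maxRecDepth 100000
set_option linter.unusedSectionVars false

open Cfsg.Spor

namespace CfsgLib.Sporadic.Fi24Recognition

open CosetCert CosetCert.Fi23P FischerTransitivity
open FiTransfer23 (classTr classTr_conj)
open FiTransfer.Local23.Seven (d0)

variable {G : Type*} [Group G]

/-- The component. -/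
def Gam (l : G) : Set G := {x | x ∈ conjugatesOf l ∧ Two (conjugatesOf l) l x}

/-- The members commuting with two. -/
def Common (l a b : G) : Set G := {y | y ∈ conjugatesOf l ∧ Commute a y ∧ Commute b y}

namespace Local

variable {G₀ : Subgroup G} {φ : Fi23 →* G} {l : G} (S : Local G₀ φ l)
include S

theorem self_gam : l ∈ Gam l := ⟨S.self_mem, S.two_refl S.self_mem⟩

theorem gam_of_commute {a : G} (ha : a ∈ conjugatesOf l) (h : Commute l a) : a ∈ Gam l :=
  ⟨ha, S.two_of_commute S.self_mem h⟩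

theorem gam_step {a b : G} (ha : a ∈ Gam l) (hb : b ∈ conjugatesOf l) (h : Commute a b) : b ∈ Gam l :=
  ⟨hb, S.two_step ha.1 hb ha.2 h⟩

theorem two_all {a b : G} (ha : a ∈ Gam l) (hb : b ∈ Gam l) : Two (conjugatesOf l) a b := by
  obtain ⟨φ', S'⟩ := S.at_member ha.1
  have hcl := S.class_eq ha.1
  have := S'.two_trans (hcl.symm ▸ S.self_mem) (hcl.symm ▸ hb.1) (hcl.symm ▸ ha.2.symm) (hcl.symm ▸ hb.2)
  rwa [hcl] at this

theorem common_subset {a b : G} (ha : a ∈ Gam l) : Common l a b ⊆ Gam l := fun _ hy =>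
  S.gam_step ha hy.1 hy.2.1

theorem two_conj {a b : G} (h : Two (conjugatesOf l) a b) (g : G) :
    Two (conjugatesOf l) (g * a * g⁻¹) (g * b * g⁻¹) := by
  obtain ⟨m, hm, h1, h2⟩ := h
  exact ⟨_, S.frame.conj_mem hm g, (Commute.conj_iff g).2 h1, (Commute.conj_iff g).2 h2⟩

theorem gam_conj {x g : G} (hg : g * l * g⁻¹ ∈ Gam l) (hx : x ∈ Gam l) : g * x * g⁻¹ ∈ Gam l := by
  refine ⟨S.frame.conj_mem hx.1 g, ?_⟩
  exact S.two_trans hg.1 (S.frame.conj_mem hx.1 g) hg.2 (S.two_conj hx.2 g)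

theorem common_image (g a b : G) :
    Common l (g * a * g⁻¹) (g * b * g⁻¹) = (fun y => g * y * g⁻¹) '' Common l a b := by
  ext y
  constructor
  · rintro ⟨hy, h1, h2⟩
    refine ⟨g⁻¹ * y * g, ⟨by simpa using S.frame.conj_mem hy g⁻¹, ?_, ?_⟩, by group⟩
    · refine (Commute.conj_iff g).1 ?_
      rwa [show g * (g⁻¹ * y * g) * g⁻¹ = y by group]
    · refine (Commute.conj_iff g).1 ?_
      rwa [show g * (g⁻¹ * y * g) * g⁻¹ = y by group]
  · rintro ⟨x, ⟨hx, h1, h2⟩, rfl⟩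
    exact ⟨S.frame.conj_mem hx g, (Commute.conj_iff g).2 h1, (Commute.conj_iff g).2 h2⟩

theorem card_common_conj (g a b : G) :
    (Common l (g * a * g⁻¹) (g * b * g⁻¹)).ncard = (Common l a b).ncard := by
  rw [S.common_image, Set.ncard_image_of_injective _ fun _ _ e => mul_left_cancel (mul_right_cancel e)]

/-- The members commuting with both are the twists in the common set. -/
theorem common_eq {k : G} (hlk : ¬ Commute l k) :
    Common l l k = (fun x => φ x * l) '' Com φ l k := by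
  ext y
  constructor
  · rintro ⟨hy, h1, h2⟩
    obtain ⟨x, hx, e⟩ := S.frame.nb y hy h1.symm fun e => hlk (e ▸ h2.symm)
    exact ⟨x, ⟨hx, e ▸ h2.symm⟩, e.symm⟩
  · rintro ⟨x, ⟨hx, hc⟩, rfl⟩
    exact ⟨S.frame.mem x hx, (S.frame.twist_comm x).symm, hc.symm⟩

theorem card_common_eq {k : G} (hlk : ¬ Commute l k) :
    (Common l l k).ncard = (Com φ l k).ncard := by
  rw [S.common_eq hlk, Set.ncard_image_of_injective _ fun _ _ => S.frame.twist_inj]

/-- The members at distance two from `l` are conjugate under its chart. -/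
theorem trans_far {k k' : G} (hk : k ∈ Gam l) (hk' : k' ∈ Gam l) (hlk : ¬ Commute l k)
    (hlk' : ¬ Commute l k') : ∃ h : Fi23, φ h * k * (φ h)⁻¹ = k' := by
  obtain ⟨m, hm, hlm, hmk⟩ := hk.2
  obtain ⟨m', hm', hlm', hmk'⟩ := hk'.2
  obtain ⟨h, ψ, K, e0, ek⟩ := exists_link S.frame hk.1 hlk hm hlm.symm hmk
  obtain ⟨h', ψ', K', e0', ek'⟩ := exists_link S.frame hk'.1 hlk' hm' hlm'.symm hmk'
  -- carry the middle member to the other
  set a := h' * h⁻¹ with ha
  set g := φ a with hg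
  have hgl : g * l * g⁻¹ = l := by rw [hg, (S.frame.comm a).eq, mul_inv_cancel_right]
  have hgm : g * m * g⁻¹ = m' := by
    rw [← e0, ← e0', hg]
    show φ a * (φ (h * tr * h⁻¹) * l) * (φ a)⁻¹ = φ (h' * tr * h'⁻¹) * l
    rw [S.frame.twist, ha]; congr 2; group
  set k1 := g * k * g⁻¹ with hk1
  have hFm : Frame ψ' m' := by have := K'.nbr; rwa [e0'] at this
  have hk1m : Commute k1 m' := hgm ▸ (Commute.conj_iff g).2 hmk.symm
  have hk1l : ¬ Commute l k1 := fun c => hlk ((Commute.conj_iff g).1 (by rwa [hgl]))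
  have hcl := S.class_eq hm'
  obtain ⟨y, hy, ey⟩ := hFm.nb k1 (hcl.symm ▸ S.frame.conj_mem hk.1 g) hk1m
    fun e => hk1l (e ▸ hlm')
  have hback : ψ' tr * m' = l := e0' ▸ K'.back
  have hyt : ¬ Commute tr y := fun c => hk1l (by
    rw [← hback, ey]; exact (hFm.twist_commute_iff tr y).2 c)
  obtain ⟨c, c1, c2⟩ := FiTransfer.Local23.Seven.exists_conj classTr_mem hy hyt
  rw [FiTransfer23.Instance.a0_eq] at c1
  have hcC : c ∈ C23 := Subgroup.mem_centralizer_singleton_iff.2 (mul_inv_eq_iff_eq_mul.1 c1)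
  obtain ⟨b, hb⟩ := K'.psi_range ⟨c, hcC⟩
  refine ⟨h' * (b : Fi23) * h'⁻¹ * a, ?_⟩
  have hb' : φ (h' * (b : Fi23) * h'⁻¹) = ψ' c := hb
  rw [map_mul, hb', show ψ' c * φ a * k * (ψ' c * φ a)⁻¹ = ψ' c * (φ a * k * (φ a)⁻¹) * (ψ' c)⁻¹ by group]
  show ψ' c * k1 * (ψ' c)⁻¹ = k'
  rw [ey, hFm.twist, c2, ek']

end Local

end CfsgLib.Sporadic.Fi24Recognition
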