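import Cfsg.Agent.Lib.Sporadic.Fi24Recognition.Component
import Cfsg.Agent.Lib.ThreeTransp.TypeTwentyFour.Srg

/-!
# The size of a component and the common neighbours of a non-commuting pair

The component is a strongly regular graph of valency 31671 on an even number of points, so two
non-commuting members have 3240 or 3366 common neighbours; the orbits of the centraliser of the base
transposition leave only 3240, the transpositions of `PΩ₈⁺(3):S₃`.
-/

set_option autoImplicit false
set_option maxRecDepth 100000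
set_option linter.unusedSectionVars false

open Cfsg.Spor

namespace CfsgLib.Sporadic.Fi24Recognition

open CosetCert CosetCert.Fi23P FischerTransitivity
open FiTransfer23 (classTr classTr_conj)
open FiTransfer.Local23.Seven (d0)
open Fi23Tri (aa L)

/-- The discriminant of the graph. -/
def disc (m : ℕ) : ℕ := (if m ≤ 3510 then 3510 - m else m - 3510) ^ 2 + 4 * (31671 - m)

theorem disc_check : (List.range 31671).all (fun m => !(Nat.beq (891855360 % m) 0) ||
    (Nat.beq m 3240 || Nat.beq m 3366 ||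
      !(Nat.beq (Nat.sqrt (disc m) * Nat.sqrt (disc m)) (disc m)))) = true := by decide +kernel

theorem mu_cases {m : ℕ} (hm : m < 31671) (hd : m ∣ 891855360)
    (hs : IsSquare (((3510 : ℤ) - m) ^ 2 + 4 * ((31671 : ℤ) - m))) : m = 3240 ∨ m = 3366 := by
  have h := List.all_eq_true.1 disc_check m (List.mem_range.2 hm)
  have hdisc : ((disc m : ℕ) : ℤ) = ((3510 : ℤ) - m) ^ 2 + 4 * ((31671 : ℤ) - m) := by
    rw [disc]
    split_ifs with h1
    · push_cast [Nat.cast_sub h1, Nat.cast_sub hm.le]; ring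
    · push_cast [Nat.cast_sub (Nat.le_of_lt (not_le.1 h1)), Nat.cast_sub hm.le]; ring
  rw [← hdisc] at hs
  obtain ⟨r, hr⟩ := hs
  have hr' : disc m = r.natAbs * r.natAbs := by
    rw [← Int.natAbs_mul, ← hr, Int.natAbs_natCast]
  rw [Nat.mod_eq_zero_of_dvd (by exact hd) |> fun e => show 891855360 % m = 0 from Nat.mod_eq_zero_of_dvd hd,
    hr', Nat.sqrt_eq] at h
  simpa using h

/-- The transpositions of `PΩ₈⁺(3):S₃`. -/
def LT : Set Fi23 := {x | x ∈ classTr ∧ x ∈ L}

theorem card_LT : LT.ncard ≤ 3240 := by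
  haveI := CosetCert.Fi23P.finite
  have hsub : LT ⊆ Set.range fun p : Fin 3 × Fin 1080 =>
      Fi23Tri.rep p.1 * Fi23Tri.xd p.2 * (Fi23Tri.rep p.1)⁻¹ := by
    rintro x ⟨hx, hxL⟩
    obtain ⟨g, hg, rfl⟩ := Fi23Tri.conj_in_L hx hxL
    obtain ⟨j, hj⟩ := Fi23Tri.decomp hg
    obtain ⟨i, hi⟩ := hj.pres (Fi23Tri.gn 0)
    refine ⟨(j, i), ?_⟩
    have e : (Fi23Tri.rep j)⁻¹ * g * aa * ((Fi23Tri.rep j)⁻¹ * g)⁻¹ = Fi23Tri.xd i := by
      rw [Fi23Tri.aa, Fi23Tri.xd, Two.conj_dp, hi]; rfl
    show Fi23Tri.rep j * Fi23Tri.xd i * (Fi23Tri.rep j)⁻¹ = g * aa * g⁻¹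
    rw [← e]; group
  refine (Set.ncard_le_ncard hsub).trans ((Finite.card_range_le _).trans ?_)
  rw [Nat.card_prod, Nat.card_fin, Nat.card_fin]

variable {G : Type*} [Group G]

/-- A set with an involution without fixed points has even size. -/
theorem even_of_involution {α : Type*} (s : Finset α) (f : α → α) (hmem : ∀ a ∈ s, f a ∈ s)
    (hne : ∀ a ∈ s, f a ≠ a) (hinv : ∀ a ∈ s, f (f a) = a) : Even s.card := by
  have h : ∑ _a ∈ s, (1 : ZMod 2) = 0 :=
    Finset.sum_involution (fun a _ => f a) (fun a _ => by decide) (fun a ha _ => hne a ha) hmem hinv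
  rw [Finset.sum_const, nsmul_one] at h
  exact (ZMod.natCast_eq_zero_iff_even).1 h

namespace Local

variable {G₀ : Subgroup G} {φ : Fi23 →* G} {l : G} (S : Local G₀ φ l)
include S

/-- Each member has 31671 others commuting with it, and two commuting ones 3510. -/
theorem degree {a : G} (ha : a ∈ conjugatesOf l) :
    (Nb (conjugatesOf l) a).ncard = 31671 ∧
      ∀ b ∈ Nb (conjugatesOf l) a, (Nb (conjugatesOf l) a ∩ Nb (conjugatesOf l) b).ncard = 3510 := by
  obtain ⟨ψ, S'⟩ := S.at_member ha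
  have hcl := S.class_eq ha
  have F := S'.frame
  have hnb : Nb (conjugatesOf l) a = (fun x => ψ x * a) '' classTr := by
    ext y
    constructor
    · rintro ⟨hy, hne, hc⟩
      obtain ⟨x, hx, e⟩ := F.nb y (hcl.symm ▸ hy) hc.symm hne
      exact ⟨x, hx, e.symm⟩
    · rintro ⟨x, hx, rfl⟩
      exact ⟨hcl ▸ F.mem x hx, F.twist_ne hx, (F.twist_comm x).symm⟩
  refine ⟨?_, fun b hb => ?_⟩
  · rw [hnb, Set.ncard_image_of_injective _ fun _ _ => F.twist_inj]
    exact ThreeTransp.TypeTwentyFour.Model.card_class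
  obtain ⟨u, hu, rfl⟩ := hnb.subset hb
  obtain ⟨g, hg⟩ := FiTransfer23.Instance.conjugate classTr_mem hu
  have hset : Nb (conjugatesOf l) a ∩ Nb (conjugatesOf l) (ψ u * a) =
      (fun x => ψ (g * x * g⁻¹) * a) '' Nb classTr tr := by
    ext y
    constructor
    · rintro ⟨hy, -, hyu, hc⟩
      obtain ⟨x, hx, rfl⟩ := hnb.subset hy
      have hc' : Commute u x := (F.twist_commute_iff u x).1 hc
      refine ⟨g⁻¹ * x * g, ⟨by simpa using classTr_conj (g := g⁻¹) hx, fun e => hyu ?_, ?_⟩, ?_⟩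
      · rw [← hg, ← e]; congr 2; group
      · refine (Commute.conj_iff g).1 ?_
        rwa [hg, show g * (g⁻¹ * x * g) * g⁻¹ = x by group]
      · show ψ (g * (g⁻¹ * x * g) * g⁻¹) * a = ψ x * a
        congr 2; group
    · rintro ⟨x, hx, rfl⟩
      have hx' : g * x * g⁻¹ ∈ classTr := classTr_conj hx.1
      refine ⟨hnb.symm.subset ⟨_, hx', rfl⟩, hcl ▸ F.mem _ hx', fun e => hx.2.1 ?_, ?_⟩
      · exact mul_left_cancel (mul_right_cancel ((F.twist_inj e).trans hg.symm))
      · refine (F.twist_commute_iff u _).2 ?_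
        rw [← hg]; exact (Commute.conj_iff g).2 hx.2.2
  rw [hset, Set.ncard_image_of_injective _ fun x y e =>
    mul_left_cancel (mul_right_cancel (F.twist_inj e))]
  exact card_nb_tr

/-- Some member of the component does not commute with `l`. -/
theorem exists_far : ∃ k ∈ Gam l, ¬ Commute l k := by
  have hm : φ tr * l ∈ conjugatesOf l := S.frame.mem tr classTr_mem
  obtain ⟨ψ, S'⟩ := S.at_member hm
  have hcl := S.class_eq hm
  obtain ⟨y, hy, ey⟩ := S'.frame.nb l (hcl.symm ▸ S.self_mem) (S.frame.twist_comm tr).symm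
    (S.frame.twist_ne classTr_mem).symm
  obtain ⟨c, hc⟩ := FiTransfer23.Instance.conjugate classTr_mem hy
  refine ⟨ψ (c * d0 * c⁻¹) * (φ tr * l), ⟨hcl ▸ S'.frame.mem _ (classTr_conj d0_mem),
    φ tr * l, hm, (S.frame.twist_comm tr).symm, (S'.frame.twist_comm _).symm⟩, fun h => ?_⟩
  have h' : Commute (c * tr * c⁻¹) (c * d0 * c⁻¹) := by
    rw [hc]; exact (S'.frame.twist_commute_iff _ _).1 (ey ▸ h)
  exact not_commute_d0 ((Commute.conj_iff c).1 h')

/-- Two members at distance two do not share all neighbours. -/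
theorem com_ne {k : G} (hk : k ∈ Gam l) (hlk : ¬ Commute l k) : ¬ classTr ⊆ Com φ l k := by
  haveI := CosetCert.Fi23P.finite
  intro hall
  obtain ⟨m, hm, hlm, hmk⟩ := hk.2
  obtain ⟨h, ψ, K, e0, ek⟩ := exists_link S.frame hk.1 hlk hm hlm.symm hmk
  obtain ⟨θ, hθ⟩ := K.exists_auto
  have e := K.com_inter hθ d0_mem not_commute_d0
  rw [e0, ek] at e
  set A := {x : ↥C23 | (x : Fi23) ∈ Nb classTr tr ∧ Commute (x : Fi23) d0} with hA
  have hsub : Nb classTr tr ⊆ (fun x : ↥C23 => (θ x : Fi23) * tr) '' A := by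
    intro y hy
    have hy' : y ∈ Com (shifted φ h) l k ∩ {x | Commute x tr} :=
      ⟨⟨hy.1, (hall (classTr_conj hy.1)).2⟩, hy.2.2.symm⟩
    rw [e] at hy'
    rcases hy' with rfl | ⟨x, hx, hd, rfl⟩
    · exact absurd rfl hy.2.1
    · exact ⟨x, ⟨hx, hd⟩, rfl⟩
  have h1 : 3510 ≤ A.ncard := card_nb_tr ▸ (Set.ncard_le_ncard hsub).trans (Set.ncard_image_le (Set.toFinite _))
  have h2 : Subtype.val '' A = Nb classTr tr := by
    refine Set.eq_of_subset_of_ncard_le (by rintro _ ⟨x, hx, rfl⟩; exact hx.1) ?_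
    rwa [Set.ncard_image_of_injective _ Subtype.val_injective, card_nb_tr]
  refine not_commute_d0 ?_
  have h3 : C23 ≤ Subgroup.centralizer ({d0} : Set Fi23) := by
    show Subgroup.centralizer ({tr} : Set Fi23) ≤ _
    rw [← ThreeTransp.TypeTwentyFour.Model.closure_nb]
    refine (Subgroup.closure_le _).2 fun y hy => ?_
    obtain ⟨x, hx, rfl⟩ := h2.symm.subset hy
    exact Subgroup.mem_centralizer_singleton_iff.2 hx.2.eq
  exact Subgroup.mem_centralizer_singleton_iff.1 (h3 tr_mem_C23)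

variable [Finite G]

/-- The parameters of the component and the common neighbours in standard position. -/
theorem params {k : G} (hk : k ∈ Gam l) (hlk : ¬ Commute l k) :
    (Gam l).ncard = 306936 ∧ ∃ g : Fi23, Com φ l k = (fun x => g * x * g⁻¹) '' LT := by
  classical
  haveI := CosetCert.Fi23P.finite
  haveI := Fintype.ofFinite G
  haveI : Fintype ↥(Gam l) := Fintype.ofFinite _
  haveI : Nonempty ↥(Gam l) := ⟨⟨l, S.self_gam⟩⟩
  set μ := (Com φ l k).ncard with hμ
  let R : ↥(Gam l) → ↥(Gam l) → Prop := fun a b => (a : G) ≠ b ∧ Commute (a : G) (b : G)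
  have hcnt : ∀ (P : Set G) (Q : ↥(Gam l) → Prop) [DecidablePred Q], (∀ c, Q c ↔ (c : G) ∈ P) → P ⊆ Gam l →
      (Finset.univ.filter fun c : ↥(Gam l) => Q c).card = P.ncard := by
    intro P Q _ hQ hP
    rw [← Set.ncard_coe_finset, ← Set.ncard_image_of_injective _ Subtype.val_injective]
    congr 1
    ext y
    simp only [Finset.coe_filter, Finset.mem_univ, true_and, Set.mem_image, Set.mem_ofPred_eq, hQ]
    exact ⟨fun ⟨c, hc, e⟩ => e ▸ hc, fun hy => ⟨⟨y, hP hy⟩, hy, rfl⟩⟩
  have hdeg : ∀ a, (Finset.univ.filter fun c => R a c).card = 31671 := by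
    rintro ⟨a, ha⟩
    rw [← (S.degree ha.1).1]
    convert hcnt (Nb (conjugatesOf l) a) (fun c => R ⟨a, ha⟩ c) (fun c => ⟨fun h => ⟨c.2.1, Ne.symm h.1, h.2⟩, fun h => ⟨Ne.symm h.2.1, h.2.2⟩⟩)
      fun y hy => S.gam_step ha hy.1 hy.2.2
  have hlam : ∀ a b, R a b → (Finset.univ.filter fun c => R a c ∧ R b c).card = 3510 := by
    rintro ⟨a, ha⟩ ⟨b, hb⟩ ⟨hne, hab⟩
    rw [← (S.degree ha.1).2 b ⟨hb.1, Ne.symm hne, hab⟩]
    convert hcnt (Nb (conjugatesOf l) a ∩ Nb (conjugatesOf l) b) (fun c => R ⟨a, ha⟩ c ∧ R ⟨b, hb⟩ c)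
      (fun c => ⟨fun h => ⟨⟨c.2.1, Ne.symm h.1.1, h.1.2⟩, c.2.1, Ne.symm h.2.1, h.2.2⟩,
      fun h => ⟨⟨Ne.symm h.1.2.1, h.1.2.2⟩, Ne.symm h.2.2.1, h.2.2.2⟩⟩)
      fun y hy => S.gam_step ha hy.1.1 hy.1.2.2
  have hconst : ∀ a ∈ Gam l, ∀ b ∈ Gam l, ¬ Commute a b → (Common l a b).ncard = μ := by
    intro a ha b hb hab
    obtain ⟨g, hg⟩ := isConj_iff.1 (IsConj.symm ha.1 : IsConj a l)
    set b' := g * b * g⁻¹ with hb'
    have hb'g : b' ∈ Gam l := ⟨S.frame.conj_mem hb.1 g, hg ▸ S.two_conj (S.two_all ha hb) g⟩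
    have hlb : ¬ Commute l b' := fun c => hab ((Commute.conj_iff g).1 (by rwa [hg]))
    obtain ⟨h, hh⟩ := S.trans_far hk hb'g hlk hlb
    have e := S.card_common_conj (φ h) l k
    rw [hh, (S.frame.comm h).eq, mul_inv_cancel_right] at e
    rw [← S.card_common_conj g, hg, ← hb', e, S.card_common_eq hlk]
  have hmu : ∀ a b, a ≠ b → ¬ R a b → (Finset.univ.filter fun c => R a c ∧ R b c).card = μ := by
    rintro ⟨a, ha⟩ ⟨b, hb⟩ hne hn
    have hne' : a ≠ b := fun e => hne (Subtype.ext e)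
    have hab : ¬ Commute a b := fun c => hn ⟨hne', c⟩
    rw [← hconst a ha b hb hab]
    convert hcnt (Common l a b) (fun c => R ⟨a, ha⟩ c ∧ R ⟨b, hb⟩ c)
      (fun c => ⟨fun h => ⟨c.2.1, h.1.2, h.2.2⟩, fun h =>
      ⟨⟨fun e => hab ((show a = (c : G) from e).symm ▸ h.2.2).symm, h.2.1⟩,
        fun e => hab ((show b = (c : G) from e).symm ▸ h.2.1), h.2.2⟩⟩)
      fun y hy => S.gam_step ha hy.1 hy.2.1
  have hirr : ∀ a, ¬ R a a := fun a h => h.1 rfl
  have hsymm : ∀ a b, R a b → R b a := fun a b h => ⟨Ne.symm h.1, h.2.symm⟩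
  have hcount := ThreeTransp.TypeTwentyFour.Srg.count R 31671 3510 μ hirr hsymm hdeg hlam hmu ⟨l, S.self_gam⟩
  -- the parity
  set far := Finset.univ.filter fun c : ↥(Gam l) => ¬ Commute l (c : G) with hfar
  have hsplit : Fintype.card ↥(Gam l) = 1 + 31671 + far.card := by
    have h1 := Finset.card_filter_add_card_filter_not (s := (Finset.univ : Finset ↥(Gam l)))
      (fun c : ↥(Gam l) => Commute l (c : G))
    rw [Finset.card_univ] at h1
    have h2 : (Finset.univ.filter fun c : ↥(Gam l) => Commute l (c : G)) =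
        insert ⟨l, S.self_gam⟩ (Finset.univ.filter fun c => R ⟨l, S.self_gam⟩ c) := by
      ext c
      simp only [Finset.mem_filter, Finset.mem_univ, true_and, Finset.mem_insert, R]
      constructor
      · intro h
        by_cases e : l = (c : G)
        · exact Or.inl (Subtype.ext e.symm)
        · exact Or.inr ⟨e, h⟩
      · rintro (rfl | h)
        · exact Commute.refl l
        · exact h.2
    rw [h2, Finset.card_insert_of_notMem (by simp [R]), hdeg] at h1
    rw [← h1, hfar]
  have hev : Even (Fintype.card ↥(Gam l)) := by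
    set t := φ tr with ht
    have htl : Commute t l := S.frame.comm tr
    have ht2 : t * t = 1 := by rw [ht, ← map_mul, classTr_sq classTr_mem, map_one]
    have hti : t⁻¹ = t := inv_eq_of_mul_eq_one_right ht2
    have htm : ∀ x ∈ Gam l, t * x * t⁻¹ ∈ Gam l := fun x hx =>
      S.gam_conj (by rw [htl.eq, mul_inv_cancel_right]; exact S.self_gam) hx
    have hfe : Even far.card := by
      refine even_of_involution far (fun c => ⟨t * c * t⁻¹, htm c c.2⟩) ?_ ?_ ?_
      · intro c hc
        rw [hfar, Finset.mem_filter] at hc ⊢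
        refine ⟨Finset.mem_univ _, fun h => hc.2 ((Commute.conj_iff t).1 ?_)⟩
        rwa [show t * l * t⁻¹ = l by rw [htl.eq, mul_inv_cancel_right]]
      · intro c hc e
        rw [hfar, Finset.mem_filter] at hc
        have e' : t * (c : G) * t⁻¹ = c := congrArg Subtype.val e
        set f := (c : G) with hf
        set m := t * l with hmdef
        have hm : m ∈ Gam l := S.gam_of_commute (S.frame.mem tr classTr_mem) (S.frame.twist_comm tr).symm
        have htf : Commute t f := mul_inv_eq_iff_eq_mul.1 e'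
        have hmf : ¬ Commute m f := fun h => hc.2 (by
          have := htf.mul_left h
          rwa [hmdef, ← mul_assoc, ht2, one_mul] at this)
        obtain ⟨-, b1⟩ := S.braid c.2.1 c.2.2 hc.2
        obtain ⟨ψ, S'⟩ := S.at_member hm.1
        have hcl := S.class_eq hm.1
        obtain ⟨-, b2⟩ := S'.braid (hcl.symm ▸ c.2.1) (hcl.symm ▸ S.two_all hm c.2) hmf
        -- both braids give the same conjugate
        have hm2 : m = l * t := htl.eq
        have e2 : m * f * m = l * f * l := by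
          calc m * f * m = l * t * f * (t * l) := by rw [← hm2]
            _ = l * (t * f * t) * l := by group
            _ = l * f * l := by rw [htf.eq, mul_assoc f, ht2, mul_one]
        have e3 : f * m * f = f * l * f := by rw [← b2, e2, b1]
        have e4 : m = l := mul_left_cancel (mul_right_cancel e3)
        exact S.frame.twist_ne classTr_mem e4
      · intro c hc
        exact Subtype.ext (by
          show t * (t * (c : G) * t⁻¹) * t⁻¹ = c
          rw [hti, show t * (t * (c : G) * t) * t = t * t * (c : G) * (t * t) by group, ht2, one_mul, mul_one])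
    rw [hsplit]
    exact (show Even (1 + 31671) from ⟨15836, rfl⟩).add hfe
  have hprod : μ * far.card = 891855360 := by
    have e : (Fintype.card ↥(Gam l) : ℤ) = 1 + 31671 + far.card := by exact_mod_cast hsplit
    rw [e] at hcount
    push_cast at hcount
    have : ((μ * far.card : ℕ) : ℤ) = 891855360 := by push_cast; linarith
    exact_mod_cast this
  have hμle : μ < 31671 := by
    rw [hμ, ← ThreeTransp.TypeTwentyFour.Model.card_class]
    exact Set.ncard_lt_ncard ⟨fun x hx => hx.1, S.com_ne hk hlk⟩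
  have hsq := ThreeTransp.TypeTwentyFour.Srg.isSquare_disc R 31671 3510 μ hirr hsymm hdeg hlam hmu hev
    (by omega)
  push_cast at hsq
  have hcases := mu_cases hμle ⟨_, hprod.symm⟩ hsq
  -- the standard position
  obtain ⟨m, hm, hlm, hmk⟩ := hk.2
  obtain ⟨h, hhm, hcom⟩ := standard S.frame hk.1 hlk hm hlm.symm hmk
  set C := Com (shifted φ h) l k with hC
  have hCcard : C.ncard = μ := by
    rw [hC, com_shift, Set.ncard_image_of_injective _ fun _ _ e => mul_left_cancel (mul_right_cancel e)]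
  have hψk : ∀ g ∈ H0, Commute (shifted φ h g) k := by
    intro g hg
    refine Subgroup.mem_centralizer_singleton_iff.1
      ((Subgroup.closure_le ((Subgroup.centralizer ({k} : Set G)).comap (shifted φ h))).2 ?_ hg)
    rintro _ ⟨y, hy, rfl⟩
    refine Subgroup.mem_comap.2 (Subgroup.mem_centralizer_singleton_iff.2 ?_)
    rw [← (S.frame.shift h).twist_mul, hhm]
    exact (hmk.mul_left (hcom.symm.subset ⟨hy.1, hy.2.1, hy.2.2.2⟩).1.2).eq
  have hstable : ∀ g ∈ H0, ∀ x ∈ C, g * x * g⁻¹ ∈ C := by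
    intro g hg x hx
    refine ⟨classTr_conj hx.1, ?_⟩
    rw [← (S.frame.shift h).twist g x]
    have := (Commute.conj_iff (shifted φ h g)).2 hx.2
    rwa [(hψk g hg).eq, mul_inv_cancel_right] at this
  have hCL : C ⊆ LT := by
    intro x hx
    refine ⟨hx.1, ?_⟩
    rcases kind hx.1 hstable hx (by rw [hCcard]; omega) with hc | hc
    · exact (hcom.subset ⟨hx, hc.symm⟩).2.1
    · exact hc
  have hμ2 : μ = 3240 := by
    have := (Set.ncard_le_ncard hCL).trans card_LT
    omega
  have hCeq : C = LT := Set.eq_of_subset_of_ncard_le hCL (by rw [hCcard, hμ2]; exact card_LT)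
  refine ⟨?_, h, ?_⟩
  · rw [hμ2] at hprod
    rw [← Nat.card_coe_set_eq, Nat.card_eq_fintype_card, hsplit]
    omega
  · rw [← hCeq, hC, com_shift, Set.image_image]
    ext y
    refine ⟨fun hy => ⟨y, hy, ?_⟩, ?_⟩
    · show h * (h⁻¹ * y * h) * h⁻¹ = y
      group
    · rintro ⟨z, hz, e⟩
      rw [← e]
      show h * (h⁻¹ * z * h) * h⁻¹ ∈ Com φ l k
      rw [show h * (h⁻¹ * z * h) * h⁻¹ = z by group]
      exact hz

end Local

end CfsgLib.Sporadic.Fi24Recognition
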