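import Cfsg.Agent.Lib.Sporadic.Fi24Recognition.Model
import Cfsg.Agent.Lib.Sporadic.FiTransfer.Local23.Seven

/-!
# A standard position for two non-commuting members with a common neighbour

Comparing with the presented Fi24 through the automorphism of the centraliser of a transposition, the
twists commuting with both members and the middle one are the transpositions of `PΩ₈⁺(3):S₃` commuting
with the base one.
-/

set_option autoImplicit false
set_option maxRecDepth 100000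

open Cfsg.Spor

namespace CfsgLib.Sporadic.Fi24Recognition

open CosetCert CosetCert.Fi23P FischerTransitivity
open FiTransfer23 (classTr classTr_conj)
open FiTransfer.Local23.Seven (d0)
open Fi23Tri (aa L)

/-- The transpositions of `PΩ₈⁺(3):S₃` commuting with the base one. -/
def LC : Set Fi23 := {x | x ∈ classTr ∧ x ∈ L ∧ Commute x aa}

theorem aa_mem_class : aa ∈ classTr := Fi23Ten.dp_mem_classTr23 _

theorem not_commute_d0 : ¬ Commute tr d0 := FiTransfer23.Instance.not_commute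

theorem d0_mem : d0 ∈ classTr := FiTransfer23.Instance.d0_mem

variable {G : Type*} [Group G]

theorem com_shift (φ : Fi23 →* G) (h : Fi23) (l k : G) :
    Com (shifted φ h) l k = (fun x => h⁻¹ * x * h) '' Com φ l k := by
  have e : ∀ x, h * (h⁻¹ * x * h) * h⁻¹ = x := fun x => by group
  ext y
  constructor
  · rintro ⟨hy, hc⟩
    exact ⟨h * y * h⁻¹, ⟨classTr_conj hy, hc⟩, by group⟩
  · rintro ⟨x, ⟨hx, hc⟩, rfl⟩
    refine ⟨by simpa using classTr_conj (g := h⁻¹) hx, ?_⟩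
    show Commute (φ (h * (h⁻¹ * x * h) * h⁻¹) * l) k
    rwa [e]

/-- Two members with a common neighbour in a linked position. -/
theorem exists_link {φ : Fi23 →* G} {l k m : G} (F : Frame φ l) (hk : k ∈ conjugatesOf l)
    (hlk : ¬ Commute l k) (hm : m ∈ conjugatesOf l) (hml : Commute m l) (hmk : Commute m k) :
    ∃ (h : Fi23) (ψ : Fi23 →* G), Link (shifted φ h) l ψ ∧ shifted φ h tr * l = m ∧ ψ d0 * m = k := by
  have hne : m ≠ l := fun e => hlk (e ▸ hmk)
  obtain ⟨x, hx, e⟩ := F.nb m hm hml hne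
  obtain ⟨h, hh⟩ := isConj_iff.1 (show IsConj tr x from hx)
  have e0 : shifted φ h tr * l = m := by show φ (h * tr * h⁻¹) * l = m; rw [hh, e]
  have F1 := F.shift h
  obtain ⟨g, hg⟩ := isConj_iff.1 hm
  have Fm : Frame (moved φ g) m := by have := F.conjugate g; rwa [hg] at this
  have hcl : conjugatesOf m = conjugatesOf l := (IsConj.conjugatesOf_eq hm).symm
  obtain ⟨y, hy, el⟩ := Fm.nb l (hcl.symm ▸ mem_conjugatesOf_self) hml.symm hne.symm
  obtain ⟨w, hw, ek⟩ := Fm.nb k (hcl.symm ▸ hk) hmk.symm fun e1 => hlk (e1 ▸ hml.symm)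
  have hyw : ¬ Commute y w := fun hc => hlk (by rw [el, ek]; exact (Fm.twist_commute_iff y w).2 hc)
  obtain ⟨c, c1, c2⟩ := FiTransfer.Local23.Seven.exists_conj hy hw hyw
  rw [FiTransfer23.Instance.a0_eq] at c1
  refine ⟨h, shifted (moved φ g) c⁻¹, ⟨F1, ?_, ?_⟩, e0, ?_⟩
  · rw [e0]; exact Fm.shift c⁻¹
  · rw [e0]
    show moved φ g (c⁻¹ * tr * c⁻¹⁻¹) * m = l
    rw [el, ← c1]; congr 2; group
  · show moved φ g (c⁻¹ * d0 * c⁻¹⁻¹) * m = k
    rw [ek, ← c2]; congr 2; group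

/-- The set read off from an automorphism. -/
def readOff (θ : MulAut ↥C23) : Set Fi23 :=
  insert tr {y | ∃ x : ↥C23, (x : Fi23) ∈ Nb classTr tr ∧ Commute (x : Fi23) d0 ∧ y = (θ x : Fi23) * tr}

theorem readOff_conj {θ θ' : MulAut ↥C23} (c : ↥C23) (h : ∀ x, θ x = c * θ' x * c⁻¹) :
    readOff θ = (fun y => (c : Fi23) * y * (c : Fi23)⁻¹) '' readOff θ' := by
  have hc : (c : Fi23) * tr = tr * c := Subgroup.mem_centralizer_singleton_iff.1 c.2
  have hct : (c : Fi23) * tr * (c : Fi23)⁻¹ = tr := mul_inv_eq_iff_eq_mul.2 hc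
  have key : ∀ x, (θ x : Fi23) * tr = (c : Fi23) * ((θ' x : Fi23) * tr) * (c : Fi23)⁻¹ := fun x => by
    rw [h, show (c : Fi23) * ((θ' x : Fi23) * tr) * (c : Fi23)⁻¹ =
      (c : Fi23) * θ' x * (c : Fi23)⁻¹ * ((c : Fi23) * tr * (c : Fi23)⁻¹) by group, hct]
    rfl
  rw [readOff, readOff, Set.image_insert_eq, hct]
  congr 1
  ext y
  constructor
  · rintro ⟨x, hx, hd, rfl⟩
    exact ⟨_, ⟨x, hx, hd, rfl⟩, (key x).symm⟩
  · rintro ⟨_, ⟨x, hx, hd, rfl⟩, rfl⟩
    exact ⟨x, hx, hd, (key x).symm⟩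

/-- The set is a conjugate of the standard one. -/
theorem readOff_eq {θ : MulAut ↥C23}
    (hθ : ∀ x : ↥C23, (x : Fi23) ∈ Nb classTr tr → (θ x : Fi23) * tr ∈ Nb classTr tr) :
    ∃ u : Fi23, u * aa * u⁻¹ = tr ∧ readOff θ = (fun y => u * y * u⁻¹) '' LC := by
  haveI := Fi24Model.finite
  have F0 := Fi24Model.facts
  have Ff := frame_of_facts F0
  have hcom := com_of_facts F0 _ Fi24Model.stab_k
  set g := CosetCert.Fi23P.Two.el (Fi24Model.tr Fi24Model.UB.gL) with hg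
  set l : Fi24 := Fi24Model.gen 0
  set k : Fi24 := Fi24Model.gen 1
  have hxm : g * aa * g⁻¹ ∈ Com Fi24Model.embFi l k := by
    rw [hcom]; exact ⟨aa, ⟨aa_mem_class, Fi23Tri.aa_mem⟩, rfl⟩
  obtain ⟨h, ψ, K, e0, ek⟩ := exists_link Ff F0.k_mem F0.not_commute (Ff.mem _ hxm.1) (Ff.twist_comm _) hxm.2
  obtain ⟨θ', hθ'⟩ := K.exists_auto
  obtain ⟨c, hc⟩ := swap_unique hθ fun x hx => K.auto_nb hθ' hx
  have htr : h * tr * h⁻¹ = g * aa * g⁻¹ := Ff.twist_inj e0
  set v := h⁻¹ * g with hv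
  have hvaa : v * aa * v⁻¹ = tr := by
    rw [hv, show h⁻¹ * g * aa * (h⁻¹ * g)⁻¹ = h⁻¹ * (g * aa * g⁻¹) * h by group, ← htr]; group
  have h' : readOff θ' = (fun y => v * y * v⁻¹) '' LC := by
    have e := K.com_inter hθ' d0_mem not_commute_d0
    rw [e0, ek] at e
    rw [readOff, ← e, com_shift, hcom, Set.image_image]
    ext y
    constructor
    · rintro ⟨⟨x, hx, rfl⟩, hyt⟩
      refine ⟨x, ⟨hx.1, hx.2, (Commute.conj_iff v).1 ?_⟩, by rw [hv]; group⟩
      rw [hvaa]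
      rw [show v * x * v⁻¹ = h⁻¹ * (g * x * g⁻¹) * h by rw [hv]; group]
      exact hyt
    · rintro ⟨x, hx, rfl⟩
      refine ⟨⟨x, ⟨hx.1, hx.2.1⟩, by rw [hv]; group⟩, ?_⟩
      have := (Commute.conj_iff v).2 hx.2.2
      rwa [hvaa] at this
  refine ⟨c * v, ?_, ?_⟩
  · rw [show (c : Fi23) * v * aa * ((c : Fi23) * v)⁻¹ = (c : Fi23) * (v * aa * v⁻¹) * (c : Fi23)⁻¹ by group, hvaa]
    exact mul_inv_eq_iff_eq_mul.2 (Subgroup.mem_centralizer_singleton_iff.1 c.2)
  · rw [readOff_conj c hc, h', Set.image_image]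
    refine Set.image_congr fun y _ => ?_
    group

/-- The standard position. -/
theorem standard {φ : Fi23 →* G} {l k m : G} (F : Frame φ l) (hk : k ∈ conjugatesOf l)
    (hlk : ¬ Commute l k) (hm : m ∈ conjugatesOf l) (hml : Commute m l) (hmk : Commute m k) :
    ∃ h : Fi23, shifted φ h aa * l = m ∧ Com (shifted φ h) l k ∩ {x | Commute x aa} = LC := by
  obtain ⟨h, ψ, K, e0, ek⟩ := exists_link F hk hlk hm hml hmk
  obtain ⟨θ, hθ⟩ := K.exists_auto
  obtain ⟨u, hu, hS⟩ := readOff_eq fun x hx => K.auto_nb hθ hx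
  have e := K.com_inter hθ d0_mem not_commute_d0
  rw [e0, ek] at e
  refine ⟨h * u, ?_, ?_⟩
  · rw [← e0]
    show φ (h * u * aa * (h * u)⁻¹) * l = φ (h * tr * h⁻¹) * l
    rw [← hu]; congr 2; group
  · ext y
    have hmem : y ∈ LC ↔ u * y * u⁻¹ ∈ readOff θ := by
      rw [hS]
      exact ⟨fun hy => ⟨y, hy, rfl⟩, fun ⟨z, hz, ez⟩ => mul_left_cancel (mul_right_cancel ez) ▸ hz⟩
    rw [hmem, readOff, ← e]
    have e1 : φ (h * u * y * (h * u)⁻¹) = φ (h * (u * y * u⁻¹) * h⁻¹) := by congr 1; group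
    constructor
    · rintro ⟨⟨hy, hc⟩, hya⟩
      refine ⟨⟨classTr_conj hy, ?_⟩, ?_⟩
      · show Commute (φ (h * (u * y * u⁻¹) * h⁻¹) * l) k
        rw [← e1]; exact hc
      · show Commute (u * y * u⁻¹) tr
        rw [← hu]; exact (Commute.conj_iff u).2 hya
    · rintro ⟨⟨hy, hc⟩, hyt⟩
      have hy' : y ∈ classTr := by
        have := classTr_conj (g := u⁻¹) hy
        rwa [inv_inv, show u⁻¹ * (u * y * u⁻¹) * u = y by group] at this
      refine ⟨⟨hy', ?_⟩, (Commute.conj_iff u).1 ?_⟩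
      · show Commute (φ (h * u * y * (h * u)⁻¹) * l) k
        rw [e1]; exact hc
      · rw [hu]; exact hyt

end CfsgLib.Sporadic.Fi24Recognition
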