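import Cfsg.Agent.Lib.Sporadic.Fi24Recognition.OrbitFacts
import Cfsg.Agent.Lib.Sporadic.Fi24Recognition.Standard

/-!
# The members at distance at most two form a connected component

If two members commuting with a common involution of the subgroup of index two are always at distance at
most two, then so are the ends of every path of length three.
-/

set_option autoImplicit false
set_option maxRecDepth 100000
set_option linter.unusedSectionVars false

open Cfsg.Spor

namespace CfsgLib.Sporadic.Fi24Recognition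

open CosetCert CosetCert.Fi23P FischerTransitivity
open FiTransfer23 (classTr classTr_conj)
open Fi23Tri (aa L)

variable {G : Type*} [Group G]

/-- At distance at most two. -/
def Two (E : Set G) (a b : G) : Prop := ∃ m ∈ E, Commute a m ∧ Commute m b

theorem Two.symm {E : Set G} {a b : G} (h : Two E a b) : Two E b a := by
  obtain ⟨m, hm, h1, h2⟩ := h
  exact ⟨m, hm, h2.symm, h1.symm⟩

/-- A frame inside a normal subgroup, with the condition on common involutions. -/
structure Local (G₀ : Subgroup G) (φ : Fi23 →* G) (l : G) : Prop where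
  frame : Frame φ l
  normal : G₀.Normal
  range : ∀ h, φ h ∈ G₀
  near : ∀ i ∈ G₀, i * i = 1 → i ≠ 1 → ∀ a ∈ conjugatesOf l, ∀ b ∈ conjugatesOf l,
    Commute i a → Commute i b → Two (conjugatesOf l) a b

namespace Local

variable {G₀ : Subgroup G} {φ : Fi23 →* G} {l : G} (S : Local G₀ φ l)
include S

theorem self_mem : l ∈ conjugatesOf l := mem_conjugatesOf_self

theorem conjugate (g : G) : Local G₀ (moved φ g) (g * l * g⁻¹) := by
  refine ⟨S.frame.conjugate g, S.normal, fun h => S.normal.conj_mem _ (S.range h) g, ?_⟩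
  rw [(IsConj.conjugatesOf_eq (isConj_iff.2 ⟨g, rfl⟩)).symm]
  exact S.near

/-- Every member has a frame. -/
theorem at_member {m : G} (hm : m ∈ conjugatesOf l) : ∃ φ', Local G₀ φ' m := by
  obtain ⟨g, rfl⟩ := isConj_iff.1 hm
  exact ⟨_, S.conjugate g⟩

theorem class_eq {m : G} (hm : m ∈ conjugatesOf l) : conjugatesOf m = conjugatesOf l :=
  (IsConj.conjugatesOf_eq hm).symm

theorem two_refl {a : G} (ha : a ∈ conjugatesOf l) : Two (conjugatesOf l) a a :=
  ⟨a, ha, Commute.refl a, Commute.refl a⟩

theorem two_of_commute {a b : G} (ha : a ∈ conjugatesOf l) (h : Commute a b) : Two (conjugatesOf l) a b :=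
  ⟨a, ha, Commute.refl a, h⟩

/-- The ends of a path of length three. -/
theorem path_three {m e f : G} (hm : m ∈ conjugatesOf l) (he : e ∈ conjugatesOf l)
    (hf : f ∈ conjugatesOf l) (hlm : Commute l m) (hme : Commute m e) (hef : Commute e f) :
    Two (conjugatesOf l) l f := by
  by_cases hle : Commute l e
  · exact ⟨e, he, hle, hef⟩
  by_cases hmf : Commute m f
  · exact ⟨m, hm, hlm, hmf⟩
  obtain ⟨φ', S'⟩ := S.at_member he
  have hcl := S.class_eq he
  obtain ⟨h, hhm, hcom⟩ := standard S'.frame (hcl.symm ▸ S.self_mem) (fun c => hle c.symm)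
    (hcl.symm ▸ hm) hme hlm.symm
  set ψ := shifted φ' h with hψ
  have Fψ : Frame ψ e := S'.frame.shift h
  obtain ⟨x, hx, ex⟩ := Fψ.nb f (hcl.symm ▸ hf) hef.symm fun e1 => hmf (e1 ▸ hme)
  obtain ⟨s, hs, hs2, hs1, hsx⟩ := exists_involution hx
  have hsl : Commute (ψ s) l := by
    have hle' : H0 ≤ (Subgroup.centralizer ({l} : Set G)).comap ψ := by
      refine (Subgroup.closure_le _).2 ?_
      rintro _ ⟨y, hy, rfl⟩
      refine Subgroup.mem_comap.2 (Subgroup.mem_centralizer_singleton_iff.2 ?_)
      have hyk : Commute (ψ y * e) l := (hcom.symm.subset ⟨hy.1, hy.2.1, hy.2.2.2⟩).1.2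
      have h1 : Commute (ψ aa * e) l := by rw [hhm]; exact hlm.symm
      rw [← Fψ.twist_mul]
      exact (h1.mul_left hyk).eq
    exact Subgroup.mem_centralizer_singleton_iff.1 (hle' hs)
  refine S.near (ψ s) (S'.range _) (by rw [← map_mul, hs2, map_one])
    (fun e1 => hs1 (Fψ.inj (e1.trans (map_one ψ).symm))) l S.self_mem f hf hsl ?_
  rw [ex]
  exact (hsx.map ψ).mul_right (Fψ.comm s)

/-- A member commuting with one at distance two is at distance two. -/
theorem two_step {x y : G} (hx : x ∈ conjugatesOf l) (hy : y ∈ conjugatesOf l)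
    (h : Two (conjugatesOf l) l x) (hxy : Commute x y) : Two (conjugatesOf l) l y := by
  obtain ⟨m, hm, h1, h2⟩ := h
  exact S.path_three hm hx hy h1 h2 hxy

/-- Distance at most two is transitive through the base member. -/
theorem two_trans {a b : G} (ha : a ∈ conjugatesOf l) (hb : b ∈ conjugatesOf l)
    (h1 : Two (conjugatesOf l) l a) (h2 : Two (conjugatesOf l) a b) : Two (conjugatesOf l) l b := by
  obtain ⟨m, hm, e1, e2⟩ := h2
  exact S.two_step hm hb (S.two_step ha hm h1 e1) e2

/-- Members at distance two generate a symmetric group of degree three. -/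
theorem braid {k : G} (hk : k ∈ conjugatesOf l) (h : Two (conjugatesOf l) l k) (hlk : ¬ Commute l k) :
    (l * k) ^ 3 = 1 ∧ l * k * l = k * l * k := by
  obtain ⟨m, hm, hlm, hmk⟩ := h
  obtain ⟨ψ, S'⟩ := S.at_member hm
  have hcl := S.class_eq hm
  obtain ⟨a, ha, ea⟩ := S'.frame.nb l (hcl.symm ▸ S.self_mem) hlm fun e => hlk (e ▸ hmk)
  obtain ⟨b, hb, eb⟩ := S'.frame.nb k (hcl.symm ▸ hk) hmk.symm fun e => hlk (e ▸ hlm)
  have hab : ¬ Commute a b := fun c => hlk (by rw [ea, eb]; exact (S'.frame.twist_commute_iff a b).2 c)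
  have hG := FiTransfer23.Instance.isThreeTranspositionGroup
  have h3 : (a * b) ^ 3 = 1 := (hG.1.2 a ha b hb).resolve_left fun e => hab (by
    rw [pow_two] at e
    have e' := eq_inv_of_mul_eq_one_left e
    rwa [mul_inv_rev, inv_eq_of_mul_eq_one_right (classTr_sq ha),
      inv_eq_of_mul_eq_one_right (classTr_sq hb)] at e')
  have h4 : (l * k) ^ 3 = 1 := by rw [ea, eb, S'.frame.twist_mul, ← map_pow, h3, map_one]
  refine ⟨h4, ?_⟩
  have hl2 := S.frame.member_sq S.self_mem
  have hk2 := S.frame.member_sq hk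
  rw [pow_succ, pow_two] at h4
  have e : l * k * l * (k * l * k) = 1 := by rw [← h4]; simp only [mul_assoc]
  rw [eq_inv_of_mul_eq_one_left e, mul_inv_rev, mul_inv_rev, inv_eq_of_mul_eq_one_right hl2,
    inv_eq_of_mul_eq_one_right hk2, ← mul_assoc]

end Local

end CfsgLib.Sporadic.Fi24Recognition
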