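import Cfsg.Agent.Lib.Sporadic.FiTransfer23.InvolutionClasses
import Cfsg.Agent.Lib.Sporadic.FiTransfer23.Instance
import Cfsg.Agent.Lib.Sporadic.FiTransfer23.PairCountModel
import Cfsg.Agent.Lib.Sporadic.LargeFischer.DoubleFi22
import Cfsg.Agent.Lib.ThreeTransp.TypeTwentyFour.Fixed
import Cfsg.Agent.Lib.ThreeTransp.TypeTwentyFour.Unique.Loc

/-!
# What is used of Fi23: the centraliser of a transposition, commuting pairs and triples
-/

set_option autoImplicit false
set_option maxRecDepth 100000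

open Cfsg.Spor

namespace CfsgLib.Sporadic.Fi24Recognition

open CosetCert CosetCert.Fi23P CosetCert.Fi23P.OutFi FischerTransitivity
open Two (dp)
open FiTransfer23 (classTr)
open ThreeTransp.TypeTwentyFour (Model.card_nb)

local notation "D₀" => classTr

theorem classTr_sq {x : Fi23} (hx : x ∈ D₀) : x * x = 1 := by
  obtain ⟨g, rfl⟩ := isConj_iff.1 hx
  rw [show g * tr * g⁻¹ * (g * tr * g⁻¹) = g * (tr * tr) * g⁻¹ by group,
    ThreeTransp.TypeTwentyFour.Model.tr_eq_dp, dp_sq, mul_one, mul_inv_cancel]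

theorem classTr_ne_one {x : Fi23} (hx : x ∈ D₀) : x ≠ 1 := by
  obtain ⟨g, rfl⟩ := isConj_iff.1 hx
  exact fun e => tr_ne_one (conj_eq_one_iff.1 e)

theorem classTr_mem : tr ∈ D₀ := mem_conjugatesOf_self

theorem card_nb_tr : (Nb D₀ tr).ncard = 3510 := Model.card_nb

theorem centralizer_eq_sub : Subgroup.centralizer ({tr} : Set Fi23) = sub lH :=
  ThreeTransp.TypeTwentyFour.Model.closure_nb.symm.trans FiTransfer23.Instance.nb_closure

/-- The images of different neighbours in Fi22 differ. -/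
theorem toFi22_injOn : Set.InjOn toFi22 {x : sub lH | (x : Fi23) ∈ Nb D₀ tr} := by
  haveI := CosetCert.Fi23P.finite
  refine Set.injOn_of_ncard_image_eq ?_ (Set.toFinite _)
  rw [FiTransfer23.Instance.image_nb, ThreeTransp.TypeTwentyFour.card_classTr22, ← card_nb_tr]
  refine (Set.ncard_congr (s := {x : sub lH | (x : Fi23) ∈ Nb D₀ tr}) (fun x _ => (x : Fi23)) (fun x hx => hx) (fun a b _ _ e => SetLike.coe_eq_coe.1 e) ?_).symm
  intro y hy
  exact ⟨⟨y, centralizer_eq_sub.le (Subgroup.mem_centralizer_singleton_iff.2 hy.2.2.symm.eq)⟩, hy, rfl⟩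

/-- A neighbour times the transposition is no neighbour. -/
theorem nb_mul_tr {x : Fi23} (hx : x ∈ Nb D₀ tr) : x * tr ∉ Nb D₀ tr := by
  intro hy
  have hxm : x ∈ sub lH := centralizer_eq_sub.le (Subgroup.mem_centralizer_singleton_iff.2 hx.2.2.symm.eq)
  have e : (⟨x * tr, mul_mem hxm tr_mem⟩ : sub lH) = ⟨x, hxm⟩ :=
    toFi22_injOn hy hx (by
      rw [show (⟨x * tr, mul_mem hxm tr_mem⟩ : sub lH) = ⟨x, hxm⟩ * ⟨tr, tr_mem⟩ from rfl, map_mul,
        MonoidHom.mem_ker.1 tr_mem_ker, mul_one])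
  exact tr_ne_one (mul_eq_left.1 (congrArg Subtype.val e :))

/-- The product of two commuting transpositions is no transposition. -/
theorem mul_not_classTr {a b : Fi23} (ha : a ∈ D₀) (hb : b ∈ D₀) (hne : a ≠ b) (hc : Commute a b) :
    a * b ∉ D₀ := by
  intro hm
  obtain ⟨g, hg⟩ := FiTransfer23.Instance.conjugate hb classTr_mem
  have hga : g * a * g⁻¹ ∈ Nb D₀ tr := ⟨FiTransfer23.classTr_conj ha,
    fun e => hne (mul_left_cancel (mul_right_cancel (e.trans hg.symm))),
    hg ▸ (Commute.conj_iff g).2 hc.symm⟩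
  refine nb_mul_tr hga ⟨?_, fun e => classTr_ne_one hga.1 (mul_eq_right.1 e), hga.2.2.mul_right (Commute.refl _)⟩
  rw [← hg, show g * a * g⁻¹ * (g * b * g⁻¹) = g * (a * b) * g⁻¹ by group]
  exact FiTransfer23.classTr_conj hm

/-- The centraliser of the transposition. -/
abbrev C23 : Subgroup Fi23 := Subgroup.centralizer ({tr} : Set Fi23)

theorem tr_mem_C23 : tr ∈ C23 := Subgroup.mem_centralizer_singleton_iff.2 rfl

theorem C23_quasisimple : Cfsg.IsQuasisimple ↥C23 ∧
    Nonempty (↥C23 ⧸ Subgroup.center ↥C23 ≃* Fi22) := by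
  show Cfsg.IsQuasisimple ↥(Subgroup.centralizer ({tr} : Set Fi23)) ∧
    Nonempty (↥(Subgroup.centralizer ({tr} : Set Fi23)) ⧸ Subgroup.center ↥(Subgroup.centralizer ({tr} : Set Fi23)) ≃* Fi22)
  rw [centralizer_eq_sub]
  exact ThreeTransp.TypeTwentyFour.Model.sub_quasisimple

/-- Two outer automorphisms of the centraliser compose to an inner one. -/
theorem outer_mul {α β : MulAut ↥C23} (hα : ∀ k, α ≠ MulAut.conj k) (hβ : ∀ k, β ≠ MulAut.conj k) :
    ∃ k, α * β = MulAut.conj k := by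
  haveI := CosetCert.Fi23P.finite
  obtain ⟨hq, ⟨e⟩⟩ := C23_quasisimple
  exact ThreeTransp.TypeTwentyFour.Unique.mul_inner hq e LargeFischer.card_mulAut_fi22 hα hβ

/-- The centraliser has no proper subgroup containing the commutators. -/
theorem C23_perfect : commutator ↥C23 = ⊤ := C23_quasisimple.1.1.commutator_eq_top

/-- The centraliser of a transposition has order at least 129123503308800. -/
theorem card_C23 : 129123503308800 ≤ Nat.card ↥C23 := by
  haveI := CosetCert.Fi23P.finite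
  have h := C23.index_mul_card
  rw [Fi23P.card_eq.1] at h
  have hi : C23.index ≤ 31671 := by
    rw [← ThreeTransp.TypeTwentyFour.Model.card_class, ← Nat.card_coe_set_eq, Subgroup.index]
    refine Nat.card_le_card_of_injective
      (fun q => (⟨q.out * tr * q.out⁻¹, isConj_iff.2 ⟨_, rfl⟩⟩ : ↥D₀)) fun p q e => ?_
    have e1 : p.out * tr * p.out⁻¹ = q.out * tr * q.out⁻¹ := congrArg Subtype.val e
    rw [← QuotientGroup.out_eq' p, ← QuotientGroup.out_eq' q, QuotientGroup.eq,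
      Subgroup.mem_centralizer_singleton_iff]
    calc p.out⁻¹ * q.out * tr = p.out⁻¹ * (q.out * tr * q.out⁻¹) * q.out := by group
      _ = tr * (p.out⁻¹ * q.out) := by rw [← e1]; group
  nlinarith

/-- An element of a group fixing a point of an orbit in a set of given size. -/
theorem card_le_mul_stab {G X : Type*} [Group G] [Finite G] (H K : Subgroup G) (f : G → X) (s : Set X)
    (hs : s.Finite) (hmem : ∀ g ∈ H, f g ∈ s) (hfib : ∀ g ∈ H, ∀ h ∈ H, f g = f h → g⁻¹ * h ∈ K) :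
    Nat.card H ≤ s.ncard * Nat.card K := by
  haveI := hs.to_subtype
  rw [← Nat.card_coe_set_eq, ← Nat.card_prod]
  classical
  let r : ↥s → G := fun x => if h : ∃ g ∈ H, f g = (x : X) then h.choose else 1
  have hr : ∀ g (hg : g ∈ H), r ⟨f g, hmem g hg⟩ ∈ H ∧ f (r ⟨f g, hmem g hg⟩) = f g := fun g hg => by
    have hex : ∃ g' ∈ H, f g' = f g := ⟨g, hg, rfl⟩
    simp only [r, dif_pos hex]
    exact hex.choose_spec
  refine Nat.card_le_card_of_injective
    (fun g : ↥H => ((⟨f g, hmem g g.2⟩ : ↥s),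
      (⟨(r ⟨f g, hmem g g.2⟩)⁻¹ * g, hfib _ (hr g g.2).1 g g.2 (hr g g.2).2⟩ : ↥K))) ?_
  intro a b e
  simp only [Prod.mk.injEq, Subtype.mk.injEq] at e
  obtain ⟨e1, e2⟩ := e
  have e3 : r ⟨f a, hmem a a.2⟩ = r ⟨f b, hmem b b.2⟩ := by simp only [e1]
  rw [e3] at e2
  exact Subtype.ext (mul_left_cancel e2)

/-- The joint centraliser of a commuting pair of transpositions has order at least 36787322880. -/
theorem card_pair {a b : Fi23} (ha : a ∈ D₀) (hb : b ∈ D₀) (hne : a ≠ b) (hc : Commute a b) :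
    36787322880 ≤ Nat.card ↥(Subgroup.centralizer ({a, b} : Set Fi23)) := by
  haveI := CosetCert.Fi23P.finite
  obtain ⟨g, hg⟩ := FiTransfer23.Instance.conjugate ha classTr_mem
  set b' := g * b * g⁻¹ with hb'
  have hnb : b' ∈ Nb D₀ tr := ⟨FiTransfer23.classTr_conj hb,
    fun e => hne (mul_left_cancel (mul_right_cancel (hg.trans e.symm))), hg ▸ (Commute.conj_iff g).2 hc⟩
  have hcard : Nat.card ↥(Subgroup.centralizer ({a, b} : Set Fi23)) =
      Nat.card ↥(Subgroup.centralizer ({tr, b'} : Set Fi23)) := by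
    rw [← hg, hb']
    refine Nat.card_congr (Equiv.subtypeEquiv (MulAut.conj g).toEquiv fun z => ?_)
    show z ∈ Subgroup.centralizer ({a, b} : Set Fi23) ↔
      g * z * g⁻¹ ∈ Subgroup.centralizer ({g * a * g⁻¹, g * b * g⁻¹} : Set Fi23)
    simp only [Subgroup.mem_centralizer_iff, Set.mem_insert_iff, Set.mem_singleton_iff,
      forall_eq_or_imp, forall_eq]
    exact and_congr (Commute.conj_iff g).symm (Commute.conj_iff g).symm
  rw [hcard]
  have h := card_le_mul_stab C23 (Subgroup.centralizer ({tr, b'} : Set Fi23))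
    (fun k => k * b' * k⁻¹) (Nb D₀ tr) (Set.toFinite _) (fun k hk => ?_) fun k hk m hm e => ?_
  · rw [card_nb_tr] at h
    have := card_C23
    omega
  · have hkt : k * tr * k⁻¹ = tr := mul_inv_eq_iff_eq_mul.2 (Subgroup.mem_centralizer_singleton_iff.1 hk)
    refine ⟨FiTransfer23.classTr_conj hnb.1, fun e => hnb.2.1 (mul_left_cancel (mul_right_cancel (e.trans hkt.symm))), ?_⟩
    have := (Commute.conj_iff k).2 hnb.2.2
    rwa [hkt] at this
  · have hkm := Subgroup.mem_centralizer_singleton_iff.1 (mul_mem (inv_mem hk) hm)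
    simp only [Subgroup.mem_centralizer_iff, Set.mem_insert_iff, Set.mem_singleton_iff,
      forall_eq_or_imp, forall_eq]
    refine ⟨hkm.symm, ?_⟩
    calc b' * (k⁻¹ * m) = k⁻¹ * (k * b' * k⁻¹) * m := by group
      _ = k⁻¹ * m * b' := by rw [e]; group

/-- Two commuting transpositions have 693 further common neighbours. -/
theorem card_common_pair {a b : Fi23} (ha : a ∈ D₀) (hb : b ∈ D₀) (hne : a ≠ b) (hc : Commute a b) :
    (Nb D₀ a ∩ Nb D₀ b).ncard = 693 := by
  obtain ⟨x, y, hx, hy, hxy⟩ := FiTransfer23.PairCount.exists_commuting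
  obtain ⟨g, g1, g2⟩ := FiTransfer23.Involution.pair_std ha hb hne hc
  obtain ⟨k, k1, k2⟩ := FiTransfer23.Involution.pair_std hx hy.1 hy.2.1.symm hy.2.2
  set m := k⁻¹ * g with hm
  have e1 : m * a * m⁻¹ = x := by
    rw [hm, show k⁻¹ * g * a * (k⁻¹ * g)⁻¹ = k⁻¹ * (g * a * g⁻¹) * k by group, g1, ← k1]; group
  have e2 : m * b * m⁻¹ = y := by
    rw [hm, show k⁻¹ * g * b * (k⁻¹ * g)⁻¹ = k⁻¹ * (g * b * g⁻¹) * k by group, g2, ← k2]; group
  rw [← hxy, ← e1, ← e2]
  refine Set.ncard_congr (fun w _ => m * w * m⁻¹) ?_ (fun p q _ _ e => mul_left_cancel (mul_right_cancel e)) ?_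
  · rintro w ⟨⟨hw, h1, h2⟩, -, h3, h4⟩
    exact ⟨⟨FiTransfer23.classTr_conj hw, fun e => h1 (mul_left_cancel (mul_right_cancel e)),
      (Commute.conj_iff m).2 h2⟩, FiTransfer23.classTr_conj hw,
      fun e => h3 (mul_left_cancel (mul_right_cancel e)), (Commute.conj_iff m).2 h4⟩
  · rintro w ⟨⟨hw, h1, h2⟩, -, h3, h4⟩
    have hw' : m * (m⁻¹ * w * m) * m⁻¹ = w := by group
    have hmem : m⁻¹ * w * m ∈ D₀ := by
      have := FiTransfer23.classTr_conj (g := m⁻¹) hw
      rwa [inv_inv] at this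
    refine ⟨m⁻¹ * w * m, ⟨⟨hmem, fun e => h1 ?_, ?_⟩, hmem, fun e => h3 ?_, ?_⟩, hw'⟩
    · rw [← hw', e]
    · refine (Commute.conj_iff m).1 ?_
      rwa [hw']
    · rw [← hw', e]
    · refine (Commute.conj_iff m).1 ?_
      rwa [hw']

/-- The centraliser of a product of three commuting transpositions has order at least 318504960. -/
theorem card_triple {a b c : Fi23} (ha : a ∈ D₀) (hb : b ∈ D₀) (hc : c ∈ D₀)
    (hab : a ≠ b) (hac : a ≠ c) (hbc : b ≠ c) (cab : Commute a b) (cac : Commute a c) (cbc : Commute b c) :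
    318504960 ≤ Nat.card ↥(Subgroup.centralizer ({a * b * c} : Set Fi23)) := by
  haveI := CosetCert.Fi23P.finite
  set T := Subgroup.centralizer ({a, b, c} : Set Fi23) with hT
  have h1 : Nat.card ↥(Subgroup.centralizer ({a, b} : Set Fi23)) ≤ (Nb D₀ a ∩ Nb D₀ b).ncard * Nat.card ↥T := by
    refine card_le_mul_stab _ T (fun k => k * c * k⁻¹) _ (Set.toFinite _) (fun k hk => ?_) fun k hk m hm e => ?_
    · simp only [Subgroup.mem_centralizer_iff, Set.mem_insert_iff, Set.mem_singleton_iff,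
        forall_eq_or_imp, forall_eq] at hk
      have ea : k * a * k⁻¹ = a := mul_inv_eq_iff_eq_mul.2 hk.1.symm
      have eb : k * b * k⁻¹ = b := mul_inv_eq_iff_eq_mul.2 hk.2.symm
      refine ⟨⟨FiTransfer23.classTr_conj hc, fun e => hac ?_, ?_⟩, FiTransfer23.classTr_conj hc,
        fun e => hbc ?_, ?_⟩
      · exact (mul_left_cancel (mul_right_cancel (e.trans ea.symm))).symm
      · have := (Commute.conj_iff k).2 cac
        rwa [ea] at this
      · exact (mul_left_cancel (mul_right_cancel (e.trans eb.symm))).symm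
      · have := (Commute.conj_iff k).2 cbc
        rwa [eb] at this
    · have hkm := mul_mem (inv_mem hk) hm
      simp only [hT, Subgroup.mem_centralizer_iff, Set.mem_insert_iff, Set.mem_singleton_iff,
        forall_eq_or_imp, forall_eq] at hkm ⊢
      refine ⟨hkm.1, hkm.2, ?_⟩
      calc c * (k⁻¹ * m) = k⁻¹ * (k * c * k⁻¹) * m := by group
        _ = k⁻¹ * m * c := by rw [e]; group
  rw [card_common_pair ha hb hab cab] at h1
  have h2 := card_pair ha hb hab cab
  -- the six orders of the three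
  let l : Fin 3 → Fi23 := ![a, b, c]
  have hl : ∀ i, l i ∈ D₀ := by intro i; fin_cases i <;> assumption
  have hlinj : Function.Injective l := by
    intro i j e
    fin_cases i <;> fin_cases j
    exacts [rfl, absurd e hab, absurd e hac, absurd e.symm hab, rfl, absurd e hbc, absurd e.symm hac,
      absurd e.symm hbc, rfl]
  have hlc : ∀ i j, Commute (l i) (l j) := by
    intro i j
    fin_cases i <;> fin_cases j
    exacts [Commute.refl _, cab, cac, cab.symm, Commute.refl _, cbc, cac.symm, cbc.symm, Commute.refl _]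
  have hperm : ∀ σ : Equiv.Perm (Fin 3), ∃ g : Fi23, ∀ i, g * l i * g⁻¹ = l (σ i) := by
    intro σ
    obtain ⟨g, g1, g2, g3⟩ := FiTransfer23.Involution.triple_std ha hb hc hab hac hbc cab cac cbc
    obtain ⟨k, k1, k2, k3⟩ := FiTransfer23.Involution.triple_std (hl (σ 0)) (hl (σ 1)) (hl (σ 2))
      (hlinj.ne (σ.injective.ne (by decide))) (hlinj.ne (σ.injective.ne (by decide)))
      (hlinj.ne (σ.injective.ne (by decide))) (hlc _ _) (hlc _ _) (hlc _ _)
    refine ⟨k⁻¹ * g, fun i => ?_⟩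
    rw [show k⁻¹ * g * l i * (k⁻¹ * g)⁻¹ = k⁻¹ * (g * l i * g⁻¹) * k by group]
    fin_cases i
    · show k⁻¹ * (g * a * g⁻¹) * k = l (σ 0); rw [g1, ← k1]; group
    · show k⁻¹ * (g * b * g⁻¹) * k = l (σ 1); rw [g2, ← k2]; group
    · show k⁻¹ * (g * c * g⁻¹) * k = l (σ 2); rw [g3, ← k3]; group
  choose gσ hgσ using hperm
  have hprod : ∀ σ : Equiv.Perm (Fin 3), l (σ 0) * l (σ 1) * l (σ 2) = a * b * c := by
    have habc : a * c * b = a * b * c := by rw [mul_assoc, ← cbc.eq, ← mul_assoc]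
    have hbac : b * a * c = a * b * c := by rw [cab.eq]
    have hbca : b * c * a = a * b * c := by rw [mul_assoc, ← cac.eq, ← mul_assoc, hbac]
    have hcab : c * a * b = a * b * c := by rw [← cac.eq, habc]
    have hcba : c * b * a = a * b * c := by rw [← cbc.eq, hbca]
    have hcases : ∀ σ : Equiv.Perm (Fin 3), (σ 0, σ 1, σ 2) = (0, 1, 2) ∨ (σ 0, σ 1, σ 2) = (0, 2, 1) ∨
        (σ 0, σ 1, σ 2) = (1, 0, 2) ∨ (σ 0, σ 1, σ 2) = (1, 2, 0) ∨ (σ 0, σ 1, σ 2) = (2, 0, 1) ∨
        (σ 0, σ 1, σ 2) = (2, 1, 0) := by decide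
    intro σ
    rcases hcases σ with e | e | e | e | e | e <;> simp only [Prod.mk.injEq] at e <;>
      obtain ⟨e0, e1, e2⟩ := e <;> rw [e0, e1, e2]
    exacts [rfl, habc, hbac, hbca, hcab, hcba]
  have hTi : ∀ t ∈ T, ∀ i, t * l i = l i * t := by
    intro t ht i
    simp only [hT, Subgroup.mem_centralizer_iff, Set.mem_insert_iff, Set.mem_singleton_iff,
      forall_eq_or_imp, forall_eq] at ht
    fin_cases i
    exacts [ht.1.symm, ht.2.1.symm, ht.2.2.symm]
  have h6 : Nat.card (Equiv.Perm (Fin 3) × ↥T) ≤ Nat.card ↥(Subgroup.centralizer ({a * b * c} : Set Fi23)) := by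
    refine Nat.card_le_card_of_injective (fun p => (⟨gσ p.1 * (p.2 : Fi23), ?_⟩ :
      ↥(Subgroup.centralizer ({a * b * c} : Set Fi23)))) fun p q e => ?_
    · rw [Subgroup.mem_centralizer_singleton_iff]
      have ht : (p.2 : Fi23) * (a * b * c) = a * b * c * (p.2 : Fi23) :=
        ((Commute.mul_right (Commute.mul_right (hTi _ p.2.2 0) (hTi _ p.2.2 1)) (hTi _ p.2.2 2)) :)
      have hg : gσ p.1 * (a * b * c) = a * b * c * gσ p.1 := by
        refine mul_inv_eq_iff_eq_mul.1 ?_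
        rw [show gσ p.1 * (a * b * c) * (gσ p.1)⁻¹ = gσ p.1 * l 0 * (gσ p.1)⁻¹ * (gσ p.1 * l 1 * (gσ p.1)⁻¹) *
          (gσ p.1 * l 2 * (gσ p.1)⁻¹) by show _ = gσ p.1 * a * _ * (gσ p.1 * b * _) * (gσ p.1 * c * _); group,
          hgσ, hgσ, hgσ, hprod]
      rw [mul_assoc, ht, ← mul_assoc, hg, mul_assoc]
    · have e1 : gσ p.1 * (p.2 : Fi23) = gσ q.1 * (q.2 : Fi23) := congrArg Subtype.val e
      have hs : p.1 = q.1 := Equiv.ext fun i => hlinj (by
        rw [← hgσ p.1 i, ← hgσ q.1 i]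
        have hc' : ∀ t : ↥T, (t : Fi23) * l i * (t : Fi23)⁻¹ = l i := fun t => by
          rw [hTi _ t.2 i, mul_inv_cancel_right]
        calc gσ p.1 * l i * (gσ p.1)⁻¹ = (gσ p.1 * (p.2 : Fi23)) * l i * (gσ p.1 * (p.2 : Fi23))⁻¹ := by
              conv_lhs => rw [← hc' p.2]
              group
          _ = gσ q.1 * l i * (gσ q.1)⁻¹ := by
              rw [e1]
              conv_rhs => rw [← hc' q.2]
              group)
      exact Prod.ext hs (Subtype.ext (mul_left_cancel (hs ▸ e1)))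
  rw [Nat.card_prod, Nat.card_perm, Nat.card_fin, show Nat.factorial 3 = 6 by decide] at h6
  omega

/-- The involutions of Fi23. -/
theorem involution_cases {x : Fi23} (hx : orderOf x = 2) : x ∈ D₀ ∨
    (∃ a b, a ∈ D₀ ∧ b ∈ D₀ ∧ a ≠ b ∧ Commute a b ∧ x = a * b) ∨
    ∃ a b c, a ∈ D₀ ∧ b ∈ D₀ ∧ c ∈ D₀ ∧ a ≠ b ∧ a ≠ c ∧ b ≠ c ∧ Commute a b ∧ Commute a c ∧ Commute b c ∧
      x = a * b * c := by
  obtain ⟨l, ⟨h1, h3⟩, hnd, hl, hc, hp⟩ := FiTransfer23.Involution.decomp_involution hx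
  match l with
  | [] => simp at h1
  | [a] => left; rw [← hp, List.prod_singleton]; exact hl a (by simp)
  | [a, b] =>
    refine Or.inr (Or.inl ⟨a, b, hl a (by simp), hl b (by simp), ?_, hc a (by simp) b (by simp), ?_⟩)
    · simpa using hnd
    · rw [← hp]; simp
  | [a, b, c] =>
    simp only [List.nodup_cons, List.mem_cons, List.not_mem_nil, or_false, not_or] at hnd
    refine Or.inr (Or.inr ⟨a, b, c, hl a (by simp), hl b (by simp), hl c (by simp), hnd.1.1, hnd.1.2,
      hnd.2.1, hc a (by simp) b (by simp), hc a (by simp) c (by simp), hc b (by simp) c (by simp), ?_⟩)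
    rw [← hp]; simp [mul_assoc]
  | _ :: _ :: _ :: _ :: _ => simp only [List.length_cons] at h3; omega

/-- Commuting pairs form one orbit. -/
theorem pair_conj {a b a' b' : Fi23} (ha : a ∈ D₀) (hb : b ∈ D₀) (hne : a ≠ b) (hc : Commute a b)
    (ha' : a' ∈ D₀) (hb' : b' ∈ D₀) (hne' : a' ≠ b') (hc' : Commute a' b') :
    ∃ y : Fi23, y * (a * b) * y⁻¹ = a' * b' := by
  obtain ⟨g, g1, g2⟩ := FiTransfer23.Involution.pair_std ha hb hne hc
  obtain ⟨k, k1, k2⟩ := FiTransfer23.Involution.pair_std ha' hb' hne' hc'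
  refine ⟨k⁻¹ * g, ?_⟩
  calc k⁻¹ * g * (a * b) * (k⁻¹ * g)⁻¹ = k⁻¹ * ((g * a * g⁻¹) * (g * b * g⁻¹)) * k := by group
    _ = k⁻¹ * ((k * a' * k⁻¹) * (k * b' * k⁻¹)) * k := by rw [g1, g2, k1, k2]
    _ = a' * b' := by group

/-- Commuting triples form one orbit. -/
theorem triple_conj {a b c a' b' c' : Fi23} (ha : a ∈ D₀) (hb : b ∈ D₀) (hc : c ∈ D₀)
    (hab : a ≠ b) (hac : a ≠ c) (hbc : b ≠ c) (cab : Commute a b) (cac : Commute a c) (cbc : Commute b c)
    (ha' : a' ∈ D₀) (hb' : b' ∈ D₀) (hc' : c' ∈ D₀) (hab' : a' ≠ b') (hac' : a' ≠ c') (hbc' : b' ≠ c')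
    (cab' : Commute a' b') (cac' : Commute a' c') (cbc' : Commute b' c') :
    ∃ y : Fi23, y * (a * b * c) * y⁻¹ = a' * b' * c' := by
  obtain ⟨g, g1, g2, g3⟩ := FiTransfer23.Involution.triple_std ha hb hc hab hac hbc cab cac cbc
  obtain ⟨k, k1, k2, k3⟩ :=
    FiTransfer23.Involution.triple_std ha' hb' hc' hab' hac' hbc' cab' cac' cbc'
  refine ⟨k⁻¹ * g, ?_⟩
  calc k⁻¹ * g * (a * b * c) * (k⁻¹ * g)⁻¹
      = k⁻¹ * ((g * a * g⁻¹) * (g * b * g⁻¹) * (g * c * g⁻¹)) * k := by group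
    _ = k⁻¹ * ((k * a' * k⁻¹) * (k * b' * k⁻¹) * (k * c' * k⁻¹)) * k := by rw [g1, g2, g3, k1, k2, k3]
    _ = a' * b' * c' := by group

end CfsgLib.Sporadic.Fi24Recognition
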