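import Cfsg.Agent.Lib.Sporadic.Fi24Recognition.Fi23Facts

/-!
# A member whose centraliser is Fi23, and the two views of a commuting pair

`φ` identifies Fi23 with a half of the centraliser of `l`; the other members commuting with `l` are the
twisted transpositions.  Seen from a commuting member `m`, the common part of the two centralisers is
moved by an automorphism of the centraliser of a transposition that does not keep the transpositions.
-/

set_option autoImplicit false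
set_option maxRecDepth 100000
set_option linter.unusedSectionVars false

open Cfsg.Spor

namespace CfsgLib.Sporadic.Fi24Recognition

open CosetCert CosetCert.Fi23P FischerTransitivity
open FiTransfer23 (classTr classTr_conj)
open scoped commutatorElement

variable {G : Type*} [Group G]

/-- A member with centraliser `Fi23 × 2`. -/
structure Frame (φ : Fi23 →* G) (l : G) : Prop where
  sq : l * l = 1
  inj : Function.Injective φ
  comm : ∀ h, Commute (φ h) l
  cent : ∀ g, Commute g l → ∃ h, g = φ h ∨ g = φ h * l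
  not_mem : l ∉ φ.range
  nb : ∀ e ∈ conjugatesOf l, Commute e l → e ≠ l → ∃ x ∈ classTr, e = φ x * l
  mem : ∀ x ∈ classTr, φ x * l ∈ conjugatesOf l

/-- The transpositions whose twist commutes with `k`. -/
def Com (φ : Fi23 →* G) (l k : G) : Set Fi23 := {x | x ∈ classTr ∧ Commute (φ x * l) k}

/-- The chart carried by a conjugation. -/
abbrev moved (φ : Fi23 →* G) (g : G) : Fi23 →* G := (MulAut.conj g).toMonoidHom.comp φ

/-- The chart precomposed with a conjugation. -/
abbrev shifted (φ : Fi23 →* G) (h : Fi23) : Fi23 →* G := φ.comp (MulAut.conj h).toMonoidHom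

namespace Frame

variable {φ : Fi23 →* G} {l : G} (F : Frame φ l)
include F

theorem conj_mem {x : G} (hx : x ∈ conjugatesOf l) (g : G) : g * x * g⁻¹ ∈ conjugatesOf l :=
  IsConj.trans hx (isConj_iff.2 ⟨g, rfl⟩)

theorem conjugate (g : G) : Frame (moved φ g) (g * l * g⁻¹) := by
  have hcl : conjugatesOf (g * l * g⁻¹) = conjugatesOf l :=
    (IsConj.conjugatesOf_eq (isConj_iff.2 ⟨g, rfl⟩)).symm
  refine ⟨?_, (MulAut.conj g).injective.comp F.inj, fun h => (Commute.conj_iff g).2 (F.comm h), fun a ha => ?_,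
    ?_, fun e he hc hne => ?_, fun x hx => ?_⟩
  · rw [show g * l * g⁻¹ * (g * l * g⁻¹) = g * (l * l) * g⁻¹ by group, F.sq, mul_one, mul_inv_cancel]
  · have ha' : Commute (g⁻¹ * a * g) l := (Commute.conj_iff g).1 (by
      rwa [show g * (g⁻¹ * a * g) * g⁻¹ = a by group])
    obtain ⟨h, e | e⟩ := F.cent _ ha'
    · exact ⟨h, Or.inl (by show a = g * φ h * g⁻¹; rw [← e]; group)⟩
    · exact ⟨h, Or.inr (by
        show a = g * φ h * g⁻¹ * (g * l * g⁻¹)
        rw [show g * φ h * g⁻¹ * (g * l * g⁻¹) = g * (φ h * l) * g⁻¹ by group, ← e]; group)⟩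
  · rintro ⟨h, hh⟩
    exact F.not_mem ⟨h, (MulAut.conj g).injective hh⟩
  · rw [hcl] at he
    have he' : g⁻¹ * e * g ∈ conjugatesOf l := by simpa using F.conj_mem he g⁻¹
    obtain ⟨x, hx, e1⟩ := F.nb _ he' ((Commute.conj_iff g).1 (by
      rwa [show g * (g⁻¹ * e * g) * g⁻¹ = e by group])) fun e2 => hne (by rw [← e2]; group)
    refine ⟨x, hx, ?_⟩
    show e = g * φ x * g⁻¹ * (g * l * g⁻¹)
    rw [show g * φ x * g⁻¹ * (g * l * g⁻¹) = g * (φ x * l) * g⁻¹ by group, ← e1]
    group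
  · rw [hcl]
    show g * φ x * g⁻¹ * (g * l * g⁻¹) ∈ conjugatesOf l
    rw [show g * φ x * g⁻¹ * (g * l * g⁻¹) = g * (φ x * l) * g⁻¹ by group]
    exact F.conj_mem (F.mem x hx) g

theorem shift (h : Fi23) : Frame (shifted φ h) l := by
  refine ⟨F.sq, F.inj.comp (MulAut.conj h).injective, fun a => F.comm _, fun g hg => ?_, ?_,
    fun e he hc hne => ?_, fun x hx => F.mem _ (classTr_conj hx)⟩
  · obtain ⟨a, e | e⟩ := F.cent g hg
    · exact ⟨h⁻¹ * a * h, Or.inl (by rw [e]; show φ a = φ (h * (h⁻¹ * a * h) * h⁻¹); congr 1; group)⟩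
    · exact ⟨h⁻¹ * a * h, Or.inr (by rw [e]; show φ a * l = φ (h * (h⁻¹ * a * h) * h⁻¹) * l; congr 2; group)⟩
  · rintro ⟨a, ha⟩
    exact F.not_mem ⟨_, ha⟩
  · obtain ⟨x, hx, e1⟩ := F.nb e he hc hne
    refine ⟨h⁻¹ * x * h, by simpa using classTr_conj (g := h⁻¹) hx, ?_⟩
    show e = φ (h * (h⁻¹ * x * h) * h⁻¹) * l
    rw [e1]; congr 2; group

/-- The twisted conjugation. -/
theorem twist (h x : Fi23) : φ h * (φ x * l) * (φ h)⁻¹ = φ (h * x * h⁻¹) * l := by
  calc φ h * (φ x * l) * (φ h)⁻¹ = φ h * φ x * (l * (φ h)⁻¹) := by group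
    _ = φ h * φ x * ((φ h)⁻¹ * l) := by rw [(F.comm h).inv_left.eq]
    _ = φ (h * x * h⁻¹) * l := by rw [map_mul, map_mul, map_inv]; group

theorem twist_comm (x : Fi23) : Commute (φ x * l) l := (F.comm x).mul_left (Commute.refl l)

theorem twist_inj {x y : Fi23} (h : φ x * l = φ y * l) : x = y := F.inj (mul_right_cancel h)

theorem twist_ne {x : Fi23} (hx : x ∈ classTr) : φ x * l ≠ l := fun e =>
  classTr_ne_one hx (F.inj (by rw [map_one]; exact mul_eq_right.1 e))

theorem twist_commute_iff (x y : Fi23) : Commute (φ x * l) (φ y * l) ↔ Commute x y := by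
  constructor
  · intro h
    refine F.inj ?_
    rw [map_mul, map_mul]
    have h1 : Commute (φ x * l) (φ y * l * l) := h.mul_right (F.twist_comm x)
    rw [mul_assoc, F.sq, mul_one] at h1
    have h2 : Commute (φ x * l * l) (φ y) := h1.mul_left (F.comm y).symm
    rwa [mul_assoc, F.sq, mul_one] at h2
  · intro h
    exact ((h.map φ).mul_right (F.comm x)).mul_left ((F.comm y).symm.mul_right (Commute.refl l))

theorem member_sq {e : G} (he : e ∈ conjugatesOf l) : e * e = 1 := by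
  obtain ⟨g, rfl⟩ := isConj_iff.1 he
  exact (F.conjugate g).sq

theorem twist_mul {x y : Fi23} : φ x * l * (φ y * l) = φ (x * y) := by
  rw [show φ x * l * (φ y * l) = φ x * (l * φ y) * l by group, ← (F.comm y).eq,
    show φ x * (φ y * l) * l = φ x * φ y * (l * l) by group, F.sq, mul_one, map_mul]

end Frame

/-- A chart at the neighbour `φ tr * l` sending `tr` back to `l`. -/
structure Link (φ : Fi23 →* G) (l : G) (ψ : Fi23 →* G) : Prop where
  base : Frame φ l
  nbr : Frame ψ (φ tr * l)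
  back : ψ tr * (φ tr * l) = l

namespace Link

variable {φ ψ : Fi23 →* G} {l : G} (K : Link φ l ψ)
include K

theorem m_mem : φ tr * l ∈ conjugatesOf l := K.base.mem tr classTr_mem

theorem class_eq : conjugatesOf (φ tr * l) = conjugatesOf l := (IsConj.conjugatesOf_eq K.m_mem).symm

theorem psi_tr : ψ tr = φ tr := by
  have e := K.back
  rw [eq_mul_inv_of_mul_eq e, mul_inv_rev, mul_inv_cancel_left, ← map_inv,
    inv_eq_of_mul_eq_one_right (classTr_sq classTr_mem)]

theorem psi_range (c : ↥C23) : ∃ h : ↥C23, φ h = ψ c := by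
  have hc : ∀ a : ↥C23, Commute (ψ a) l ∧ Commute (ψ a) (φ tr * l) := fun a => by
    have h1 : Commute (a : Fi23) tr := Subgroup.mem_centralizer_singleton_iff.1 a.2
    refine ⟨?_, K.nbr.comm a⟩
    have h2 := (h1.map ψ).mul_right (K.nbr.comm a)
    rwa [K.back] at h2
  let H : Subgroup ↥C23 := φ.range.comap (ψ.comp C23.subtype)
  have hH : H = ⊤ := by
    rw [eq_top_iff, ← C23_perfect, commutator_def, Subgroup.commutator_le]
    intro a _ b _
    have key : ∀ a : ↥C23, ∃ p : Fi23, ∃ i : ℕ, ψ a = φ p * l ^ i := fun a => by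
      obtain ⟨p, e | e⟩ := K.base.cent _ (hc a).1
      · exact ⟨p, 0, by rw [pow_zero, mul_one, e]⟩
      · exact ⟨p, 1, by rw [pow_one, e]⟩
    obtain ⟨p, i, ea⟩ := key a
    obtain ⟨q, j, eb⟩ := key b
    refine ⟨⁅p, q⁆, ?_⟩
    show φ ⁅p, q⁆ = ψ (C23.subtype ⁅a, b⁆)
    have ci : ∀ (x : Fi23) (n : ℕ), Commute (φ x) (l ^ n) := fun x n => (K.base.comm x).pow_right n
    rw [map_commutatorElement, map_commutatorElement, map_commutatorElement]
    show ⁅φ p, φ q⁆ = ⁅ψ (a : Fi23), ψ (b : Fi23)⁆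
    rw [ea, eb, commutatorElement_def, commutatorElement_def]
    calc φ p * φ q * (φ p)⁻¹ * (φ q)⁻¹
        = φ p * φ q * (l ^ i * l ^ j * (l ^ i)⁻¹ * (l ^ j)⁻¹) * (φ p)⁻¹ * (φ q)⁻¹ := by
          rw [(Commute.pow_pow (Commute.refl l) i j).eq]; group
      _ = φ p * (φ q * (l ^ i * (l ^ j * (l ^ i)⁻¹))) * ((l ^ j)⁻¹ * (φ p)⁻¹) * (φ q)⁻¹ := by group
      _ = φ p * (l ^ i * φ q * (l ^ j * (l ^ i)⁻¹)) * ((φ p)⁻¹ * (l ^ j)⁻¹) * (φ q)⁻¹ := by
          rw [((ci p j).inv_left.inv_right).eq, ← (ci q i).eq]; group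
      _ = φ p * l ^ i * (φ q * l ^ j) * ((l ^ i)⁻¹ * (φ p)⁻¹) * ((l ^ j)⁻¹ * (φ q)⁻¹) := by group
      _ = φ p * l ^ i * (φ q * l ^ j) * (φ p * l ^ i)⁻¹ * (φ q * l ^ j)⁻¹ := by group
  obtain ⟨p, hp⟩ : (c : ↥C23) ∈ H := hH ▸ Subgroup.mem_top c
  have hp' : φ p = ψ c := hp
  refine ⟨⟨p, Subgroup.mem_centralizer_singleton_iff.2 (K.base.inj ?_)⟩, hp'⟩
  rw [map_mul, map_mul, hp', ← K.psi_tr, ← map_mul, ← map_mul,
    Subgroup.mem_centralizer_singleton_iff.1 c.2]

/-- The automorphism comparing the two charts. -/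
theorem exists_auto : ∃ θ : MulAut ↥C23, ∀ c : ↥C23, φ (θ c : ↥C23) = ψ c := by
  haveI := CosetCert.Fi23P.finite
  choose f hf using K.psi_range
  let θ : ↥C23 →* ↥C23 := MonoidHom.mk' f fun a b => Subtype.ext (K.base.inj (by
    rw [hf, Subgroup.coe_mul, Subgroup.coe_mul, map_mul, map_mul, hf, hf]))
  have hinj : Function.Injective θ := fun a b e => Subtype.ext (K.nbr.inj (by
    rw [← hf, ← hf]; exact congrArg (fun x : ↥C23 => φ x) e))
  exact ⟨MulEquiv.ofBijective θ (Finite.injective_iff_bijective.1 hinj), hf⟩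

variable {θ : MulAut ↥C23} (hθ : ∀ c : ↥C23, φ (θ c : ↥C23) = ψ c)
include hθ

/-- A transposition goes to a transposition times `tr`. -/
theorem auto_nb {x : ↥C23} (hx : (x : Fi23) ∈ Nb classTr tr) : (θ x : Fi23) * tr ∈ Nb classTr tr := by
  have hxc : Commute (x : Fi23) tr := hx.2.2.symm
  have hmem : ψ x * (φ tr * l) ∈ conjugatesOf l := K.class_eq ▸ K.nbr.mem _ hx.1
  have hne : ψ x * (φ tr * l) ≠ l := fun e => hx.2.1 (K.nbr.inj (mul_right_cancel (e.trans K.back.symm)))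
  have hcl : Commute (ψ x * (φ tr * l)) l := by
    rw [← hθ]
    exact (K.base.comm _).mul_left (K.base.twist_comm tr)
  obtain ⟨y, hy, e⟩ := K.base.nb _ hmem hcl hne
  have hyt : (θ x : Fi23) * tr = y := K.base.inj (by
    rw [map_mul, hθ]
    refine mul_right_cancel (b := l) ?_
    rw [mul_assoc, ← e])
  rw [hyt]
  refine ⟨hy, fun e1 => ?_, ?_⟩
  · rw [e1] at hyt
    have h1 : θ x = 1 := Subtype.ext (mul_eq_right.1 hyt)
    exact classTr_ne_one hx.1 (congrArg Subtype.val (θ.injective (h1.trans (map_one θ).symm)) :)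
  · rw [← hyt]
    exact (show Commute tr (θ x : Fi23) from
      (Subgroup.mem_centralizer_singleton_iff.1 (θ x).2).symm).mul_right (Commute.refl _)

/-- The common neighbours of `l` and `ψ d * m` inside the centraliser of `tr`. -/
theorem com_inter {d : Fi23} (hd : d ∈ classTr) (hdt : ¬ Commute tr d) :
    Com φ l (ψ d * (φ tr * l)) ∩ {x | Commute x tr} =
      insert tr {y | ∃ x : ↥C23, (x : Fi23) ∈ Nb classTr tr ∧ Commute (x : Fi23) d ∧ y = (θ x : Fi23) * tr} := by
  ext y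
  constructor
  · rintro ⟨⟨hy, hyk⟩, hyt⟩
    by_cases e0 : y = tr
    · exact Or.inl e0
    refine Or.inr ?_
    have hmem : φ y * l ∈ conjugatesOf (φ tr * l) := K.class_eq.symm ▸ K.base.mem y hy
    obtain ⟨x, hx, e⟩ := K.nbr.nb _ hmem ((K.base.twist_commute_iff y tr).2 hyt)
      fun e1 => e0 (K.base.twist_inj e1)
    have hxt : Commute x tr := (K.nbr.twist_commute_iff x tr).1 (by
      rw [K.back, ← e]; exact K.base.twist_comm y)
    have hne : x ≠ tr := fun e1 => K.base.twist_ne hy (by rw [e, e1, K.back])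
    refine ⟨⟨x, Subgroup.mem_centralizer_singleton_iff.2 hxt.eq⟩, ⟨hx, hne, hxt.symm⟩, ?_, ?_⟩
    · exact (K.nbr.twist_commute_iff x d).1 (e ▸ hyk)
    · refine K.base.inj ?_
      rw [map_mul, hθ]
      refine mul_right_cancel (b := l) ?_
      rw [mul_assoc]
      exact e
  · rintro (rfl | ⟨x, hx, hxd, rfl⟩)
    · exact ⟨⟨classTr_mem, (K.nbr.twist_comm d).symm⟩, Commute.refl tr⟩
    · refine ⟨⟨(K.auto_nb hθ hx).1, ?_⟩, (K.auto_nb hθ hx).2.2.symm⟩
      rw [map_mul, hθ, mul_assoc]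
      exact (K.nbr.twist_commute_iff _ _).2 hxd

end Link

/-- Automorphisms of the centraliser turning transpositions into twisted ones are outer. -/
theorem outer_of_swap {θ : MulAut ↥C23}
    (h : ∀ x : ↥C23, (x : Fi23) ∈ Nb classTr tr → (θ x : Fi23) * tr ∈ Nb classTr tr) (k : ↥C23) :
    θ ≠ MulAut.conj k := by
  intro e
  haveI := CosetCert.Fi23P.finite
  obtain ⟨x, hx⟩ : (Nb classTr tr).Nonempty := (Set.ncard_pos (Set.toFinite _)).1 (by rw [card_nb_tr]; norm_num)
  have hm := h ⟨x, Subgroup.mem_centralizer_singleton_iff.2 hx.2.2.symm.eq⟩ hx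
  rw [e] at hm
  have hkt : (k : Fi23) * tr * (k : Fi23)⁻¹ = tr :=
    mul_inv_eq_iff_eq_mul.2 (Subgroup.mem_centralizer_singleton_iff.1 k.2)
  refine mul_not_classTr (a := (k : Fi23) * x * (k : Fi23)⁻¹) (classTr_conj hx.1) classTr_mem
    (fun e1 => hx.2.1 (mul_left_cancel (mul_right_cancel (e1.trans hkt.symm)))) ?_ hm.1
  have := (Commute.conj_iff (k : Fi23)).2 hx.2.2.symm
  rwa [hkt] at this

/-- Two such automorphisms differ by an inner one. -/
theorem swap_unique {θ θ' : MulAut ↥C23}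
    (h : ∀ x : ↥C23, (x : Fi23) ∈ Nb classTr tr → (θ x : Fi23) * tr ∈ Nb classTr tr)
    (h' : ∀ x : ↥C23, (x : Fi23) ∈ Nb classTr tr → (θ' x : Fi23) * tr ∈ Nb classTr tr) :
    ∃ c : ↥C23, ∀ x, θ x = c * θ' x * c⁻¹ := by
  have hinv : ∀ k, (θ'⁻¹ : MulAut ↥C23) ≠ MulAut.conj k := fun k e => outer_of_swap h' k⁻¹ (by
    rw [map_inv, ← e, inv_inv])
  obtain ⟨k, hk⟩ := outer_mul hinv (outer_of_swap h)
  refine ⟨θ' k, fun x => ?_⟩
  have e := DFunLike.congr_fun hk x
  rw [MulAut.mul_apply, MulAut.conj_apply] at e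
  have e' := congrArg θ' e
  rwa [MulAut.inv_def, MulEquiv.apply_symm_apply, map_mul, map_mul, map_inv] at e'

end CfsgLib.Sporadic.Fi24Recognition
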