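import Cfsg.Agent.Lib.Sporadic.Fi24Recognition.Assembly
import Cfsg.Agent.Lib.Sporadic.Fi24Model.Transfer
import Cfsg.Agent.Lib.Components.GenFitting
import Cfsg.Agent.Lib.Components.Constrained
import Cfsg.Agent.Lib.Solvable.FrattiniFitting
import Cfsg.Agent.S5450

/-!
# The presented Fi24 from an extension of index two of a group of large Fischer type

If the centraliser of `z` in the extension has no element centralising `Q` outside `Q`, then `Q` is
its generalised Fitting subgroup: the largest normal 2-subgroup acts trivially on `Q/⟨z⟩`, which is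
irreducible for the centraliser of `z` in the subgroup of index two.
-/

set_option autoImplicit false
set_option linter.unusedSectionVars false
set_option linter.style.haveILetI false

namespace CfsgLib.Sporadic.Fi24Recognition

open LargeFischer CfsgLib.ThreeTransp.Extraspecial CfsgLib.ThreeTransp.ExtraspecialOut

theorem d4_span : ∀ d d' : D4, d ≠ 0 → d' = 0 ∨ d' = d ∨ d' = om d ∨ d' = d + om d := by decide

theorem d4_move : ∀ d : D4, d ≠ 0 → om d + d ≠ 0 := by decide

theorem two_others : ∀ i l : Fin 6, i ≠ l → ∃ r s : Fin 6, r ≠ s ∧ r ≠ i ∧ r ≠ l ∧ s ≠ i ∧ s ≠ l := by decide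

/-- The model is irreducible. -/
theorem invariant_eq {K : Subgroup (V6 ≃ₗ[ZMod 2] V6)} (h : Model K) (W : AddSubgroup V6)
    (hW : ∀ g ∈ K, ∀ v ∈ W, g v ∈ W) {v : V6} (hv : v ∈ W) (h0 : v ≠ 0) (u : V6) : u ∈ W := by
  obtain ⟨i, hi⟩ : ∃ i, v i ≠ 0 := by
    by_contra hall
    push Not at hall
    exact h0 (funext hall)
  have hdiag : ∀ j, j ≠ i → ∀ w ∈ W, ∃ w' ∈ W, w' i = om (w i) + w i ∧
      (∀ l, l ≠ i → l ≠ j → w' l = 0) ∧ (w j = 0 → w' j = 0) := by
    intro j hji w hw
    obtain ⟨g, hg, e⟩ := h.diag (Pi.single i 1 + Pi.single j (-1)) (by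
      simp only [Pi.add_apply, Finset.sum_add_distrib, Finset.sum_pi_single', Finset.mem_univ, if_true,
        add_neg_cancel])
    refine ⟨g w + w, add_mem (hW g hg w hw) hw, ?_, fun l h1 h2 => ?_, fun h3 => ?_⟩
    · rw [Pi.add_apply, e, Pi.add_apply, Pi.single_eq_same, Pi.single_eq_of_ne hji.symm, add_zero]
      rfl
    · rw [Pi.add_apply, e, Pi.add_apply, Pi.single_eq_of_ne h1, Pi.single_eq_of_ne h2, add_zero, omp_nil]
      exact congrFun (two_V6 w) l
    · rw [Pi.add_apply, e, h3, add_zero]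
      have om0 : ∀ a, omp a 0 = 0 := by decide
      exact om0 _
  obtain ⟨j, k, hjk, hji, -, hki, -⟩ := two_others i (i + 1) (by simp)
  obtain ⟨w, hw, wi, wz, -⟩ := hdiag j hji v hv
  obtain ⟨x, hx, xi, xz, xk⟩ := hdiag k hki w hw
  have hd : x i ≠ 0 := by rw [xi, wi]; exact d4_move _ (d4_move _ hi)
  have hx' : x = Pi.single i (x i) := funext fun l => by
    by_cases h1 : l = i
    · rw [h1, Pi.single_eq_same]
    · rw [Pi.single_eq_of_ne h1]
      by_cases h2 : l = k
      · subst h2; exact xk (wz _ h1 hjk.symm)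
      · exact xz l h1 h2
  have hsame : ∀ d : D4, (Pi.single i d : V6) ∈ W := by
    obtain ⟨g, hg, e⟩ := h.diag (Pi.single i 1 + Pi.single j (-1)) (by
      simp only [Pi.add_apply, Finset.sum_add_distrib, Finset.sum_pi_single', Finset.mem_univ, if_true,
        add_neg_cancel])
    have hom : (Pi.single i (om (x i)) : V6) ∈ W := by
      have e1 : g x = Pi.single i (om (x i)) := funext fun l => by
        rw [e]
        by_cases h1 : l = i
        · rw [h1, Pi.add_apply, Pi.single_eq_same, Pi.single_eq_of_ne hji.symm, add_zero, Pi.single_eq_same]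
          rfl
        · rw [Pi.single_eq_of_ne h1, show x l = 0 by rw [hx', Pi.single_eq_of_ne h1]]
          have om0 : ∀ a, omp a 0 = 0 := by decide
          exact om0 _
      exact e1 ▸ hW g hg x hx
    intro d
    rcases d4_span (x i) d hd with e1 | e1 | e1 | e1 <;> rw [e1]
    · rw [Pi.single_zero]; exact zero_mem W
    · exact hx' ▸ hx
    · exact hom
    · rw [Pi.single_add]; exact add_mem (hx' ▸ hx) hom
  rw [← Finset.univ_sum_single u]
  refine sum_mem fun l _ => ?_
  by_cases hl : l = i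
  · exact hl ▸ hsame _
  obtain ⟨r, s, hrs, hri, hrl, hsi, hsl⟩ := two_others i l (Ne.symm hl)
  obtain ⟨g, hg, e⟩ := h.perm (Equiv.swap i l * Equiv.swap r s) (by
    rw [Equiv.Perm.mem_alternatingGroup, map_mul, Equiv.Perm.sign_swap (Ne.symm hl), Equiv.Perm.sign_swap hrs]
    decide)
  have e1 : g (Pi.single i (u l)) = Pi.single l (u l) := funext fun m => by
    obtain ⟨n, rfl⟩ := (Equiv.swap i l * Equiv.swap r s).surjective m
    rw [e]
    have hl' : (Equiv.swap i l * Equiv.swap r s) i = l := by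
      rw [Equiv.Perm.mul_apply, Equiv.swap_apply_of_ne_of_ne hri.symm hsi.symm, Equiv.swap_apply_left]
    by_cases hn : n = i
    · rw [hn, hl', Pi.single_eq_same, Pi.single_eq_same]
    · rw [Pi.single_eq_of_ne hn, Pi.single_eq_of_ne fun e2 => hn ((Equiv.injective _) (e2.trans hl'.symm))]
  exact e1 ▸ hW g hg _ (hsame _)

/-- An automorphism of an extraspecial group that is trivial modulo the centre is inner. -/
theorem inner_of_trivial {A : Type*} [Group A] [Finite A] {R : Subgroup A} {z : A} (hR : Extra R z)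
    (hE : Cfsg.IsExtraspecial 2 ↥R) (β : MulAut ↥R) (hβ : ∀ a : ↥R, (β a : A) = a ∨ (β a : A) = a * z) :
    ∃ q : ↥R, ∀ a : ↥R, (β a : A) = (q : A) * a * (q : A)⁻¹ := by
  obtain ⟨k, ⟨f⟩⟩ := exists_frame hE
  have hfz : (f.z : A) = z := by
    rcases hR.mem_center_cases f.z.2 (fun q hq => congrArg Subtype.val (f.z_comm ⟨q, hq⟩)) with h | h
    · exact absurd (Subtype.ext h) f.z_ne
    · exact h
  have h1 : toO f β = 1 := by
    refine Subtype.ext (LinearEquiv.ext fun w => ?_)
    obtain ⟨a, rfl⟩ := f.π_surj w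
    rw [toO_apply]
    show _ = f.π a
    rcases hβ a with e | e
    · rw [Subtype.ext e]
    · rw [show β a = a * f.z from Subtype.ext (by rw [Subgroup.coe_mul, hfz]; exact e), f.π_mul, π_z, add_zero]
  have h2 : β ∈ Cfsg.Inn ↥R := by rw [← ker_toO f]; exact h1
  obtain ⟨q, hq⟩ := h2
  exact ⟨q, fun a => by rw [← hq]; rfl⟩

variable {X : Type*} [Group X] [Finite X]

theorem genFitting_eq (G₀ : Subgroup X) [G₀.Normal] (z : ↥G₀)
    (Q : Subgroup (Subgroup.centralizer ({z} : Set ↥G₀))) [Q.Normal] (hF : Cfsg.IsOfLargeFischerTypeAt z Q)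
    (hcent : ∀ x : X, x * z = z * x → (∀ a ∈ qImg Q, x * (a : X) = a * x) → x ∈ (qImg Q).map G₀.subtype) :
    (Cfsg.generalizedFittingSubgroup ↥(Subgroup.centralizer ({(z : X)} : Set X))).map (Subgroup.subtype _) =
      (qImg Q).map G₀.subtype := by
  classical
  haveI : Fact (Nat.Prime 2) := ⟨Nat.prime_two⟩
  have hFQ := hF.1.2.1
  obtain ⟨π, ψ, h⟩ := exists_lf z Q hF
  set C := Subgroup.centralizer ({(z : X)} : Set X) with hC
  have hCz : ∀ {x : X}, x ∈ C → MulAut.conjNormal x z = z := fun {x} hx => Subtype.ext (by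
    rw [MulAut.conjNormal_apply, Subgroup.mem_centralizer_singleton_iff.1 hx, mul_inv_cancel_right])
  have hδQ : ∀ {x : X}, x ∈ C → ∀ a ∈ qImg Q, MulAut.conjNormal x a ∈ qImg Q := by
    intro x hx a ha
    set δ := MulAut.conjNormal (H := G₀) x
    obtain ⟨ha', haQ⟩ := mem_qImg.1 ha
    have hbij : Function.Bijective (LargeFischerOuter.restr δ (hCz hx)) :=
      ⟨fun p q e => Subtype.ext (δ.injective (congrArg Subtype.val e)), LargeFischerOuter.restr_surjective _ _⟩
    let β := MulEquiv.ofBijective (LargeFischerOuter.restr δ (hCz hx)) hbij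
    have hβ := Subgroup.characteristic_iff_map_eq.1
      (Components.generalizedFittingSubgroup_characteristic (G := ↥(Subgroup.centralizer ({z} : Set ↥G₀)))) β
    exact mem_qImg_coe.2 (hFQ ▸ (hβ.le (Subgroup.mem_map_of_mem β.toMonoidHom (hFQ.symm ▸ haQ))) :
      β ⟨a, ha'⟩ ∈ Q)
  set q := (qImg Q).map G₀.subtype with hq
  have hqC : q ≤ C := by
    rintro _ ⟨a, ha, rfl⟩
    exact Subgroup.mem_centralizer_singleton_iff.2 (congrArg Subtype.val (h.extra.z_comm ha).symm)
  set q' := q.subgroupOf C with hq'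
  haveI hqn : q'.Normal := ⟨fun a ha g => by
    obtain ⟨b, hb, e⟩ := Subgroup.mem_subgroupOf.1 ha
    exact Subgroup.mem_subgroupOf.2 ⟨_, hδQ g.2 b hb, by
      rw [Subgroup.coe_subtype, MulAut.conjNormal_apply]
      rw [Subgroup.coe_subtype] at e
      simp [e]⟩⟩
  have hq2 : IsPGroup 2 q' :=
    IsPGroup.comap_of_injective (h.extra.isPGroup.map G₀.subtype) C.subtype C.subtype_injective
  have hqO : q' ≤ Cfsg.pCore 2 C := Solvable.Cores.le_pCore hq2
  have hcq : Subgroup.centralizer (q' : Set ↥C) ≤ q' := fun x hx => Subgroup.mem_subgroupOf.2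
    (hcent x (Subgroup.mem_centralizer_singleton_iff.1 x.2) fun a ha =>
      (congrArg Subtype.val (hx ⟨(a : X), hqC ⟨a, ha, rfl⟩⟩ (Subgroup.mem_subgroupOf.2 ⟨a, ha, rfl⟩))).symm)
  have hodd : Cfsg.pPrimeCore 2 C = ⊥ := by
    have h1 : Cfsg.pPrimeCore 2 C ≤ q' :=
      (Components.pPrimeCore_le_centralizer_pGroup hq2).trans hcq
    rw [← inf_eq_left.mpr h1, inf_comm]
    exact Components.inf_eq_bot_of_pGroup_coprime hq2 (Solvable.Cores.coprime_card_pPrimeCore 2)
  have hlayer : Cfsg.layer C = ⊥ := by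
    refine Components.generalizedFitting_eq_fitting_iff.1 (le_antisymm (sup_le ?_ le_rfl) le_sup_right)
    have hqF : q' ≤ Cfsg.fittingSubgroup C := hqO.trans (Solvable.Cores.pCore_le_fittingSubgroup 2)
    exact (Components.layer_le_centralizer_fitting.trans
      (Subgroup.centralizer_le (SetLike.coe_subset_coe.2 hqF))).trans (hcq.trans hqF)
  rw [Components.genFitting_eq_pCore_of hodd hlayer]
  set P := Cfsg.pCore 2 C with hP
  suffices hPq : P = q' by rw [hPq, hq', Subgroup.map_subgroupOf_eq_of_le hqC]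
  refine le_antisymm ?_ hqO
  have hP2 : IsPGroup 2 P := Solvable.Cores.isPGroup_pCore 2
  have hzq : ∀ {a : ↥G₀}, a ∈ qImg Q → MulAut.conjNormal (a : X) z = z := fun ha => hCz (hqC ⟨_, ha, rfl⟩)
  have hzC : (z : X) ∈ C := Subgroup.mem_centralizer_singleton_iff.2 rfl
  -- the vectors fixed by the largest normal 2-subgroup
  let Fixd : ↥G₀ → Prop := fun a => ∀ y : ↥C, y ∈ P →
    MulAut.conjNormal (y : X) a = a ∨ MulAut.conjNormal (y : X) a = a * z
  let W : AddSubgroup V6 :=
    { carrier := {v | ∃ a ∈ qImg Q, π a = v ∧ Fixd a}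
      zero_mem' := ⟨1, one_mem _, (h.π_ker 1 (one_mem _)).2 (Or.inl rfl), fun y _ => Or.inl (map_one _)⟩
      add_mem' := by
        rintro _ _ ⟨a, ha, rfl, fa⟩ ⟨b, hb, rfl, fb⟩
        refine ⟨a * b, mul_mem ha hb, h.π_mul a ha b hb, fun y hy => ?_⟩
        rw [map_mul]
        rcases fa y hy with e | e <;> rcases fb y hy with e' | e' <;> rw [e, e']
        · exact Or.inl rfl
        · exact Or.inr (mul_assoc _ _ _).symm
        · refine Or.inr ?_
          rw [mul_assoc, h.extra.z_comm hb, mul_assoc]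
        · refine Or.inl ?_
          rw [mul_assoc, ← mul_assoc z, h.extra.z_comm hb, mul_assoc b, h.extra.z_sq, mul_one]
      neg_mem' := by
        intro v hv
        rwa [show -v = v from neg_eq_of_add_eq_zero_right (two_V6 v)] }
  have hinv : ∀ g ∈ ψ.range, ∀ v ∈ W, g v ∈ W := by
    rintro _ ⟨c, rfl⟩ _ ⟨a, ha, rfl, fa⟩
    have hc : ((c : ↥G₀) : X) ∈ C := Subgroup.mem_centralizer_singleton_iff.2
      (congrArg Subtype.val (Subgroup.mem_centralizer_singleton_iff.1 c.2))
    have hcz : (c : ↥G₀) * z = z * c := Subgroup.mem_centralizer_singleton_iff.1 c.2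
    refine ⟨c * a * (c : ↥G₀)⁻¹, h.norm c hcz a ha, h.act c a ha, fun y hy => ?_⟩
    have hy' := (inferInstance : P.Normal).conj_mem y hy (⟨_, hc⟩⁻¹)
    have e0 : MulAut.conjNormal (y : X) ((c : ↥G₀) * a * (c : ↥G₀)⁻¹) = (c : ↥G₀) *
        MulAut.conjNormal (((⟨_, hc⟩⁻¹ * y * ⟨_, hc⟩⁻¹⁻¹ : ↥C)) : X) a * (c : ↥G₀)⁻¹ := Subtype.ext (by
      simp only [Subgroup.coe_mul, InvMemClass.coe_inv, MulAut.conjNormal_apply]
      group)
    rw [e0]
    rcases fa _ hy' with e | e <;> rw [e]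
    · exact Or.inl rfl
    · refine Or.inr ?_
      rw [mul_assoc (c : ↥G₀) a z |>.symm, mul_assoc ((c : ↥G₀) * a), mul_assoc ((c : ↥G₀) * a)]
      congr 1
      exact (Commute.inv_right (show Commute z (c : ↥G₀) from hcz.symm)).eq
  obtain ⟨v, hvW, hv0⟩ : ∃ v ∈ W, v ≠ 0 := by
    haveI : Group.IsNilpotent P := hP2.isNilpotent
    let ι : ↥P →* X := C.subtype.comp P.subtype
    let Z0 : Subgroup ↥P := (Subgroup.zpowers (z : X)).comap ι
    haveI : Z0.Normal := ⟨fun a ha g => by
      obtain ⟨i, hi⟩ := ha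
      refine ⟨i, ?_⟩
      show (z : X) ^ i = ι (g * a * g⁻¹)
      rw [map_mul, map_mul, map_inv, ← hi]
      have : Commute (ι g) (z : X) := Subgroup.mem_centralizer_singleton_iff.1 (g : ↥C).2
      rw [(this.zpow_right i).eq, mul_inv_cancel_right]⟩
    let qP : Subgroup ↥P := q'.subgroupOf P
    haveI : qP.Normal := hqn.subgroupOf P
    haveI : (qP.map (QuotientGroup.mk' Z0)).Normal :=
      Subgroup.Normal.map inferInstance _ (QuotientGroup.mk'_surjective _)
    have hne : qP.map (QuotientGroup.mk' Z0) ≠ ⊥ := by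
      obtain ⟨u, hu, eu⟩ := h.π_surj c2
      intro e
      have hm : (⟨⟨(u : X), hqC ⟨u, hu, rfl⟩⟩, hqO (Subgroup.mem_subgroupOf.2 ⟨u, hu, rfl⟩)⟩ : ↥P) ∈ qP :=
        Subgroup.mem_subgroupOf.2 (Subgroup.mem_subgroupOf.2 ⟨u, hu, rfl⟩)
      have h1 := Subgroup.mem_map_of_mem (QuotientGroup.mk' Z0) hm
      rw [e, Subgroup.mem_bot] at h1
      have h2 : _ ∈ Z0 := (QuotientGroup.eq_one_iff (N := Z0) _).1 h1
      change (u : X) ∈ Subgroup.zpowers (z : X) at h2
      have h3 : u = 1 ∨ u = z := by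
        rcases (mem_zpowers_involution (congrArg Subtype.val h.extra.z_sq)).1 h2 with e1 | e1
        · exact Or.inl (Subtype.ext e1)
        · exact Or.inr (Subtype.ext e1)
      rw [(h.π_ker u hu).2 h3] at eu
      exact absurd eu (by decide)
    obtain ⟨w, ⟨⟨p, hp, rfl⟩, hwc⟩, hw1⟩ := (Subgroup.bot_or_exists_ne_one _).resolve_left
      (Solvable.FrattiniFitting.inf_center_ne_bot _ hne)
    obtain ⟨a, ha, ea⟩ := Subgroup.mem_subgroupOf.1 (Subgroup.mem_subgroupOf.1 hp)
    have fa : Fixd a := by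
      intro y hy
      have h1 := Subgroup.mem_center_iff.1 hwc (QuotientGroup.mk' Z0 ⟨y, hy⟩)
      rw [← map_mul, ← map_mul, QuotientGroup.mk'_eq_mk'] at h1
      obtain ⟨zz, hzz, e1⟩ := h1
      obtain hz' := (mem_zpowers_involution (congrArg Subtype.val h.extra.z_sq)).1 (show ι zz ∈ Subgroup.zpowers (z : X) from hzz)
      have e2 : (y : X) * a * ι zz = a * y := by
        have := congrArg ι e1
        simp only [map_mul] at this
        rw [Subgroup.coe_subtype] at ea
        simpa [ι, ea] using this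
      have hya : MulAut.conjNormal (y : X) z = z := hCz y.2
      rcases hz' with e3 | e3
      · left
        refine Subtype.ext ?_
        rw [e3, mul_one] at e2
        rw [MulAut.conjNormal_apply, e2, mul_inv_cancel_right]
      · right
        refine Subtype.ext ?_
        rw [e3] at e2
        rw [MulAut.conjNormal_apply, Subgroup.coe_mul]
        have hzz2 : (z : X) * z = 1 := congrArg Subtype.val h.extra.z_sq
        have hyz : (y : X) * z = z * y := Subgroup.mem_centralizer_singleton_iff.1 y.2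
        calc (y : X) * a * (y : X)⁻¹ = ((y : X) * a * z) * z * (y : X)⁻¹ := by
              rw [mul_assoc _ (z : X) (z : X), hzz2, mul_one]
          _ = (a : X) * ((y : X) * z) * (y : X)⁻¹ := by rw [e2]; group
          _ = (a : X) * z := by rw [hyz]; group
    refine ⟨π a, ⟨a, ha, rfl, fa⟩, fun e => hw1 ?_⟩
    refine (QuotientGroup.eq_one_iff p).2 ?_
    show ι p ∈ Subgroup.zpowers (z : X)
    have ea' : ι p = (a : X) := ea.symm
    rw [ea']
    rcases (h.π_ker a ha).1 e with e1 | e1 <;> rw [e1]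
    · exact one_mem _
    · exact Subgroup.mem_zpowers _
  have hall : ∀ a ∈ qImg Q, Fixd a := by
    intro a ha
    obtain ⟨b, hb, eb, fb⟩ := invariant_eq h.model W hinv hvW hv0 (π a)
    intro y hy
    have hab : a = b ∨ a = b * z := by
      rcases (h.π_ker (b⁻¹ * a) (mul_mem (inv_mem hb) ha)).1 (by
        rw [h.π_mul _ (inv_mem hb) a ha]
        have hbi : π b⁻¹ = π b := by
          have h1 := h.π_mul _ (inv_mem hb) b hb
          rw [inv_mul_cancel, (h.π_ker 1 (one_mem _)).2 (Or.inl rfl)] at h1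
          exact eq_of_add_zero h1.symm
        rw [hbi, eb, two_V6]) with e | e
      · exact Or.inl (inv_mul_eq_one.1 e).symm
      · exact Or.inr (inv_mul_eq_iff_eq_mul.1 e)
    rcases hab with rfl | rfl
    · exact fb y hy
    · rw [map_mul, hCz y.2]
      rcases fb y hy with e | e <;> rw [e]
      · exact Or.inl rfl
      · exact Or.inr rfl
  intro y hy
  set δ := MulAut.conjNormal (H := G₀) (y : X) with hδ
  let f : ↥(qImg Q) →* ↥(qImg Q) := (δ.toMonoidHom.comp (qImg Q).subtype).codRestrict _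
    fun a => hδQ y.2 a a.2
  have hf : Function.Bijective f :=
    Finite.injective_iff_bijective.1 fun a b e => Subtype.ext (δ.injective (congrArg Subtype.val e))
  have hE' : Cfsg.IsExtraspecial 2 ↥(qImg Q) :=
    CfsgLib.Characterizations.CoType.isExtraspecial_congr'
      (Subgroup.equivMapOfInjective _ _ (Subgroup.centralizer ({z} : Set ↥G₀)).subtype_injective) hF.1.2.2.1
  obtain ⟨⟨r, hr⟩, hin⟩ := inner_of_trivial h.extra hE' (MulEquiv.ofBijective f hf) fun a => hall a a.2 y hy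
  have hmem : (r : X)⁻¹ * (y : X) ∈ q := by
    refine hcent _ ?_ fun a ha => ?_
    · exact Subgroup.mem_centralizer_singleton_iff.1 (mul_mem (inv_mem (hqC ⟨r, hr, rfl⟩)) y.2)
    · have h1 := congrArg Subtype.val (hin ⟨a, ha⟩)
      change ((δ a : ↥G₀) : X) = ((r * a * r⁻¹ : ↥G₀) : X) at h1
      rw [hδ, MulAut.conjNormal_apply, Subgroup.coe_mul, Subgroup.coe_mul, InvMemClass.coe_inv] at h1
      calc (r : X)⁻¹ * y * a = (r : X)⁻¹ * ((y : X) * a * (y : X)⁻¹) * y := by group
        _ = a * ((r : X)⁻¹ * y) := by rw [h1]; group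
  refine Subgroup.mem_subgroupOf.2 ?_
  have := mul_mem (show (r : X) ∈ q from ⟨r, hr, rfl⟩) hmem
  rwa [mul_inv_cancel_left] at this

theorem isoFi24_of_outer (G₀ : Subgroup X) [G₀.Normal] (hidx : G₀.index = 2) (z : ↥G₀)
    (Q : Subgroup (Subgroup.centralizer ({z} : Set ↥G₀))) [Q.Normal] (hF : Cfsg.IsOfLargeFischerTypeAt z Q)
    (hcent : ∀ x : X, x * z = z * x → (∀ a ∈ qImg Q, x * (a : X) = a * x) → x ∈ (qImg Q).map G₀.subtype) :
    Cfsg.Spor.IsoFi24' ↥G₀ ∧ ∃ E : Set X, Cfsg.IsThreeTranspositionClass E ∧ Cfsg.IsOfTypeM24 X E := by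
  haveI : Fact (Nat.Prime 2) := ⟨Nat.prime_two⟩
  obtain ⟨π, ψ, h⟩ := exists_lf z Q hF
  have hcentral : ∃ P : Sylow 2 ↥G₀, z ∈ (P : Subgroup ↥G₀) ∧ ∀ x ∈ (P : Subgroup ↥G₀), Commute x z := by
    obtain ⟨P, hP⟩ := h.extra.isPGroup.exists_le_sylow
    refine ⟨P, hP h.extra.z_mem, ?_⟩
    have hne : (P : Subgroup ↥G₀) ≠ ⊥ := fun e => h.extra.z_ne (Subgroup.mem_bot.1 (e ▸ hP h.extra.z_mem))
    haveI : Nontrivial ↥(P : Subgroup ↥G₀) := (Subgroup.nontrivial_iff_ne_bot _).2 hne
    haveI := P.isPGroup'.center_nontrivial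
    obtain ⟨⟨a, hac⟩, ha1⟩ := exists_ne (1 : ↥(Subgroup.center ↥(P : Subgroup ↥G₀)))
    have hcomm : ∀ x ∈ (P : Subgroup ↥G₀), x * (a : ↥G₀) = a * x := fun x hx =>
      congrArg Subtype.val (Subgroup.mem_center_iff.1 hac ⟨x, hx⟩)
    have haQ : ∀ q ∈ qImg Q, (a : ↥G₀) * q = q * a := fun q hq => (hcomm q (hP hq)).symm
    rcases h.extra.mem_center_cases (h.cent_le _ haQ) haQ with e | e
    · exact absurd (Subtype.ext (Subtype.ext e)) ha1
    · exact fun x hx => e ▸ hcomm x hx
  obtain ⟨E, hE, hprim, h24⟩ := type_of_noncentral G₀ hidx z Q hF hcentral (genFitting_eq G₀ z Q hF hcent) (by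
    intro t htQ ht2 ht
    have hn : ((Subgroup.zpowers t).subgroupOf (Subgroup.centralizer ({t} : Set ↥G₀))).Normal := by
      refine ⟨fun a ha g => ?_⟩
      rw [Subgroup.mem_subgroupOf] at ha ⊢
      obtain ⟨i, hi⟩ := ha
      have hcomm : Commute (g : ↥G₀) t := Subgroup.mem_centralizer_singleton_iff.1 g.2
      refine ⟨i, ?_⟩
      show t ^ i = (g : ↥G₀) * a * (g : ↥G₀)⁻¹
      rw [show (a : ↥G₀) = t ^ i from hi.symm, (hcomm.zpow_right i).eq, mul_inv_cancel_right]
    exact ⟨_, hn, Cfsg.Agent.S5450.result z Q hF t htQ ht2 ht _ rfl⟩)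
  refine ⟨?_, E, hE, h24⟩
  have hEG : Cfsg.IsThreeTranspositionGroup E := by
    obtain ⟨h1, ⟨d, hd, hDd⟩, h3⟩ := hE
    refine ⟨h1, fun g e he => ?_, h3⟩
    rw [hDd] at he ⊢
    exact IsConj.trans he (isConj_iff.2 ⟨g, rfl⟩)
  obtain ⟨e, -⟩ := Fi24Model.modelIso hEG hprim h24
  haveI := Fi24Model.finite
  have hmap : G₀.map e.toMonoidHom = commutator Cfsg.Spor.Fi24 := by
    have hi : (G₀.map e.toMonoidHom).index = 2 := by
      rw [← hidx]; exact Subgroup.index_map_equiv G₀ e
    have hle : commutator Cfsg.Spor.Fi24 ≤ G₀.map e.toMonoidHom := by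
      rw [commutator_def, Subgroup.commutator_le]
      exact fun a _ b _ => LargeFischerOuter.commutator_mem hi a b
    refine (Subgroup.eq_of_le_of_card_ge hle ?_).symm
    have e1 := (G₀.map e.toMonoidHom).card_mul_index
    have e2 := (commutator Cfsg.Spor.Fi24).card_mul_index
    rw [hi] at e1
    rw [Fi24Model.index_commutator] at e2
    omega
  exact ⟨(G₀.equivMapOfInjective e.toMonoidHom e.injective).trans (MulEquiv.subgroupCongr hmap)⟩

end CfsgLib.Sporadic.Fi24Recognition
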