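import Cfsg.Agent.Lib.Sporadic.LargeFischerOuter.Moves
import Cfsg.Agent.Lib.Sporadic.LargeFischer.OuterLift
import Cfsg.Agent.Lib.Sporadic.LargeFischer.Pair
import Cfsg.Agent.Lib.Sporadic.Fi24Recognition.Fi23Facts

/-!
# The line of an outer involution inside the extraspecial group

`δ` is the automorphism given by an outer involution fixing `z` and the noncentral involution `t`.  Its
fixed points in `Q` lie over the perpendicular of the line of `t`, and `Q` moves it along four elements,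
one over each point of that line.
-/

set_option autoImplicit false
set_option maxRecDepth 100000
set_option linter.unusedSectionVars false
set_option linter.style.haveILetI false

open Cfsg.Spor

namespace CfsgLib.Sporadic.Fi24Recognition

open LargeFischer LargeFischerOuter
open CosetCert.Fi23P (tr)

/-- The four points of the line of a vector. -/
def OnLine (v w : V6) : Prop := w = 0 ∨ w = v ∨ w = omV v ∨ w = omV (omV v)

theorem omV_ne {v : V6} (hv : v ≠ 0) : omV v ≠ 0 ∧ omV v ≠ v :=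
  ⟨fun e => hv (omV_inj (e.trans omV_zero.symm)), fun e => hv (omV_fix e)⟩

/-- A vector perpendicular to the line is a common value of independent forms. -/
theorem exists_dual {v : V6} (hv : v ≠ 0) :
    (∃ x, bs x v = 0 ∧ bs x (omV v) = 1) ∧ ∃ x, bs x v = 1 ∧ bs x (omV v) = 0 := by
  obtain ⟨h0, h1⟩ := omV_ne hv
  constructor
  · by_contra hno
    push Not at hno
    rcases eq_zero_or_of_perp hv (a := omV v) fun w hw =>
      (by rw [bs_comm]; exact (z2 _).resolve_right (hno w hw)) with e | e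
    exacts [h0 e, h1 e]
  · by_contra hno
    push Not at hno
    rcases eq_zero_or_of_perp h0 (a := v) fun w hw =>
      (by rw [bs_comm]; exact (z2 _).resolve_right fun e => hno w e hw) with e | e
    exacts [hv e, h1 e.symm]

/-- What is perpendicular to the perpendicular of a line lies on it. -/
theorem onLine_of_perp {v a : V6} (hv : v ≠ 0) (ha : ∀ w, bs w v = 0 → bs w (omV v) = 0 → bs a w = 0) :
    OnLine v a := by
  obtain ⟨⟨x2, x2v, x2w⟩, x1, x1v, x1w⟩ := exists_dual hv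
  have key : ∀ b, (∀ w, bs w v = 0 → bs w (omV v) = 0 → bs b w = 0) → bs b x1 = 0 → bs b x2 = 0 → b = 0 := by
    intro b hb e1 e2
    refine bs_nondeg fun w => ?_
    rcases z2 (bs w v) with p | p <;> rcases z2 (bs w (omV v)) with q | q
    · exact hb w p q
    · have := hb (w + x2) (by rw [bs_add_left, p, x2v, add_zero])
        (by rw [bs_add_left, q, x2w, CharTwo.add_self_eq_zero])
      rwa [bs_add, e2, add_zero] at this
    · have := hb (w + x1) (by rw [bs_add_left, p, x1v, CharTwo.add_self_eq_zero])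
        (by rw [bs_add_left, q, x1w, add_zero])
      rwa [bs_add, e1, add_zero] at this
    · have := hb (w + x1 + x2) (by rw [bs_add_left, bs_add_left, p, x1v, x2v, add_zero, CharTwo.add_self_eq_zero])
        (by rw [bs_add_left, bs_add_left, q, x1w, x2w, add_zero, CharTwo.add_self_eq_zero])
      rwa [bs_add, bs_add, e1, e2, add_zero, add_zero] at this
  have hv1 : bs v x1 = 1 := by rw [bs_comm]; exact x1v
  have hv2 : bs v x2 = 0 := by rw [bs_comm]; exact x2v
  have hw1 : bs (omV v) x1 = 0 := by rw [bs_comm]; exact x1w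
  have hw2 : bs (omV v) x2 = 1 := by rw [bs_comm]; exact x2w
  have perp : ∀ b, b = v ∨ b = omV v → ∀ w, bs w v = 0 → bs w (omV v) = 0 → bs b w = 0 := by
    rintro b (rfl | rfl) w p q
    · rw [bs_comm, p]
    · rw [bs_comm, q]
  rcases z2 (bs a x1) with p | p <;> rcases z2 (bs a x2) with q | q
  · exact Or.inl (key a ha p q)
  · refine Or.inr (Or.inr (Or.inl (eq_of_add_zero (key (a + omV v) (fun w h1 h2 => ?_) ?_ ?_))))
    · rw [bs_add_left, ha w h1 h2, perp _ (Or.inr rfl) w h1 h2, add_zero]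
    · rw [bs_add_left, p, hw1, add_zero]
    · rw [bs_add_left, q, hw2, CharTwo.add_self_eq_zero]
  · refine Or.inr (Or.inl (eq_of_add_zero (key (a + v) (fun w h1 h2 => ?_) ?_ ?_)))
    · rw [bs_add_left, ha w h1 h2, perp _ (Or.inl rfl) w h1 h2, add_zero]
    · rw [bs_add_left, p, hv1, CharTwo.add_self_eq_zero]
    · rw [bs_add_left, q, hv2, add_zero]
  · refine Or.inr (Or.inr (Or.inr ?_))
    rw [omV_sq]
    refine eq_of_add_zero (key (a + (v + omV v)) (fun w h1 h2 => ?_) ?_ ?_)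
    · rw [bs_add_left, bs_add_left, ha w h1 h2, perp _ (Or.inl rfl) w h1 h2, perp _ (Or.inr rfl) w h1 h2,
        add_zero, add_zero]
    · rw [bs_add_left, bs_add_left, p, hv1, hw1, add_zero, CharTwo.add_self_eq_zero]
    · rw [bs_add_left, bs_add_left, q, hv2, hw2, zero_add, CharTwo.add_self_eq_zero]

/-- The points of the line are perpendicular to it. -/
theorem perp_of_onLine {v w : V6} (hq : qs v = 0) (hw : OnLine v w) : bs w v = 0 ∧ bs w (omV v) = 0 ∧ qs w = 0 := by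
  have h1 : bs v (omV v) = 0 := (bs_om_self v).trans hq
  have h2 : bs (omV v) v = 0 := (bs_comm _ _).trans h1
  rcases hw with rfl | rfl | rfl | rfl
  · exact ⟨bs_zero_left _, bs_zero_left _, by decide⟩
  · exact ⟨bs_self _, h1, hq⟩
  · exact ⟨h2, bs_self _, by rw [qs_omV, hq]⟩
  · refine ⟨?_, ?_, by rw [qs_omV, qs_omV, hq]⟩
    · rw [omV_sq, bs_add_left, bs_self, h2, add_zero]
    · rw [omV_sq, bs_add_left, bs_self, h1, add_zero]

variable {G : Type*} [Group G]

/-- The element by which conjugation by `g` moves the outer involution. -/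
def nu (δ : MulAut G) (g : G) : G := g * (δ g)⁻¹

theorem nu_fixed {δ : MulAut G} {g : G} (h : δ g = g) : nu δ g = 1 := by rw [nu, h, mul_inv_cancel]

theorem fixed_of_nu {δ : MulAut G} {g : G} (h : nu δ g = 1) : δ g = g := (mul_inv_eq_one.1 h).symm

theorem nu_mul_fixed {δ : MulAut G} (g : G) {y : G} (h : δ y = y) : nu δ (g * y) = nu δ g := by
  rw [nu, map_mul, h, nu]; group

theorem nu_fixed_mul {δ : MulAut G} {y : G} (h : δ y = y) (g : G) : nu δ (y * g) = y * nu δ g * y⁻¹ := by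
  rw [nu, map_mul, h, nu]; group

variable [Finite G] {z t : G} {Q : Subgroup (Subgroup.centralizer ({z} : Set G))} [Q.Normal] {π : G → V6}
  {ψ : ↥(Subgroup.centralizer ({z} : Set G)) →* (V6 ≃ₗ[ZMod 2] V6)} {δ : MulAut G}
  {c : ↥(Subgroup.centralizer ({z} : Set G))}

/-- The data of the outer involution with the chart of its centraliser. -/
structure Side (z t : G) (Q : Subgroup (Subgroup.centralizer ({z} : Set G))) (π : G → V6)
    (ψ : ↥(Subgroup.centralizer ({z} : Set G)) →* (V6 ≃ₗ[ZMod 2] V6)) (δ : MulAut G)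
    (c : ↥(Subgroup.centralizer ({z} : Set G))) (φ : Fi23 →* G) : Prop where
  lf : LF z (qImg Q) π ψ
  act : Act z (qImg Q) t δ
  fx : Fixed z (qImg Q) π t ψ δ act.fix_z c
  orb : π t ∈ lf.model.orb c2
  inv : ∀ g, δ (δ g) = g
  inj : Function.Injective φ
  fix_iff : ∀ y, δ y = y ↔ y ∈ φ.range
  tr_eq : φ tr = t
  nconj : ¬ IsConj z t

namespace Side

variable {φ : Fi23 →* G} (S : Side z t Q π ψ δ c φ)
include S

theorem v_ne : π t ≠ 0 := S.lf.model.ne_zero_of_orb c2_facts.2.2.1 S.orb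

theorem v_sing : qs (π t) = 0 := (S.lf.model.qs_zero_of_orb S.orb).trans c2_facts.1

/-- The fixed points in `Q` lie over the perpendicular of the line. -/
theorem fixed_iff {q : G} (hq : q ∈ qImg Q) : δ q = q ↔ bs (π q) (π t) = 0 ∧ bs (π q) (omV (π t)) = 0 := by
  classical
  set t₂ := (c : G) * t * (c : G)⁻¹ with ht₂
  have ht := S.act.t_mem
  have ht₂Q : t₂ ∈ qImg Q := (S.lf.π_conj c ht).1
  have hπ₂ : π t₂ = omV (π t) := by rw [ht₂, S.lf.act c t ht, S.fx.om]
  have hiff : bs (π q) (π t) = 0 ∧ bs (π q) (omV (π t)) = 0 ↔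
      q ∈ qImg Q ⊓ Subgroup.centralizer ({t} : Set G) ⊓ Subgroup.centralizer ({t₂} : Set G) := by
    rw [← hπ₂, Subgroup.mem_inf, Subgroup.mem_inf, Subgroup.mem_centralizer_singleton_iff,
      Subgroup.mem_centralizer_singleton_iff]
    exact ⟨fun ⟨a, b⟩ => ⟨⟨hq, S.lf.commute_of_bs hq ht a⟩, S.lf.commute_of_bs hq ht₂Q b⟩,
      fun ⟨⟨_, a⟩, b⟩ => ⟨S.lf.bs_of_commute hq ht a, S.lf.bs_of_commute hq ht₂Q b⟩⟩
  rw [hiff]
  set D := qImg Q ⊓ Subgroup.centralizer ({t} : Set G) ⊓ Subgroup.centralizer ({t₂} : Set G) with hD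
  suffices h : fixQ (qImg Q) δ = D by
    rw [← h, mem_fixQ]
    exact ⟨fun e => ⟨hq, e⟩, fun e => e.2⟩
  have hle : fixQ (qImg Q) δ ≤ D := by
    intro a ha
    refine ⟨⟨ha.1, Subgroup.mem_centralizer_singleton_iff.2 (S.fx.comm a ha)⟩,
      Subgroup.mem_centralizer_singleton_iff.2 ?_⟩
    have hc2 : (c : G)⁻¹ = (c : G) * c :=
      inv_eq_of_mul_eq_one_right (by rw [← pow_two, ← pow_succ', S.fx.cube])
    have hb : (c : G)⁻¹ * a * c ∈ fixQ (qImg Q) δ := by
      have h2 := S.fx.inv _ (S.fx.inv a ha)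
      rwa [show (c : G) * ((c : G) * a * (c : G)⁻¹) * (c : G)⁻¹ = ((c : G) * c) * a * ((c : G) * c)⁻¹ by group,
        ← hc2, inv_inv] at h2
    calc a * t₂ = (c : G) * ((c : G)⁻¹ * a * c * t) * (c : G)⁻¹ := by rw [ht₂]; group
      _ = t₂ * a := by rw [S.fx.comm _ hb, ht₂]; group
  refine Subgroup.eq_of_le_of_card_ge hle ?_
  rw [S.fx.card]
  obtain ⟨⟨x, x0, x1⟩, -⟩ := exists_dual S.v_ne
  obtain ⟨a, ha, ea⟩ := S.lf.π_surj x
  have h2 := two_mul_card_le (H := D) (K := qImg Q ⊓ Subgroup.centralizer ({t} : Set G)) inf_le_left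
    (x := a) ⟨ha, Subgroup.mem_centralizer_singleton_iff.2 (S.lf.commute_of_bs ha ht (by rw [ea, x0]))⟩
    fun e => by
      have := S.lf.bs_of_commute ha ht₂Q (Subgroup.mem_centralizer_singleton_iff.1 e.2)
      rw [ea, hπ₂, x1] at this
      exact one_ne_zero this
  rw [S.lf.card_half ht S.act.t_ne_one S.act.t_ne_z] at h2
  omega

/-- Elements of `Q` over the line. -/
theorem on_line_facts {a : G} (ha : a ∈ qImg Q) (h : OnLine (π t) (π a)) :
    δ a = a ∧ a * a = 1 ∧ Commute a t := by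
  obtain ⟨e1, e2, e3⟩ := perp_of_onLine S.v_sing h
  exact ⟨(S.fixed_iff ha).2 ⟨e1, e2⟩, (S.lf.q_iff a ha).1 e3, S.lf.commute_of_bs ha S.act.t_mem e1⟩

theorem nu_Q {q : G} (hq : q ∈ qImg Q) : nu δ q ∈ qImg Q ∧ OnLine (π t) (π (nu δ q)) := by
  have hm : nu δ q ∈ qImg Q := mul_mem hq (inv_mem (S.act.map_Q q hq))
  refine ⟨hm, onLine_of_perp S.v_ne fun w h1 h2 => ?_⟩
  obtain ⟨b, hb, eb⟩ := S.lf.π_surj w
  have hbfix : δ b = b := (S.fixed_iff hb).2 ⟨eb ▸ h1, eb ▸ h2⟩
  obtain ⟨hb', eb'⟩ := S.lf.π_conj ⟨q, S.lf.mem_cent hq⟩⁻¹ hb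
  rw [map_inv, (S.lf.ker ⟨q, S.lf.mem_cent hq⟩).2 hq, inv_one] at eb'
  simp only [InvMemClass.coe_inv, inv_inv] at hb' eb'
  have eb'' : π (q⁻¹ * b * q) = π b := eb'
  have hb'fix : δ (q⁻¹ * b * q) = q⁻¹ * b * q :=
    (S.fx.full _ hb' b (mem_fixQ.2 ⟨hb, hbfix⟩) eb'').2
  rw [map_mul, map_mul, map_inv, hbfix] at hb'fix
  rw [← eb]
  refine S.lf.bs_of_commute hm hb ?_
  show q * (δ q)⁻¹ * b = b * (q * (δ q)⁻¹)
  calc q * (δ q)⁻¹ * b = q * ((δ q)⁻¹ * b * δ q) * (δ q)⁻¹ := by group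
    _ = b * (q * (δ q)⁻¹) := by rw [hb'fix]; group

theorem nu_Q_eq_one {q : G} (hq : q ∈ qImg Q) (e : π (nu δ q) = 0) : nu δ q = 1 := by
  refine nu_fixed (S.fx.full' q hq ?_).2
  have hm := S.act.map_Q q hq
  rw [nu, S.lf.π_mul _ hq _ (inv_mem hm), S.lf.π_inv hm] at e
  exact (eq_of_add_zero e).symm

/-- Two values over one point agree. -/
theorem nu_Q_inj {p q : G} (hp : p ∈ qImg Q) (hq : q ∈ qImg Q) (e : π (nu δ p) = π (nu δ q)) :
    nu δ p = nu δ q := by
  have hp' := S.act.map_Q p hp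
  have hq' := S.act.map_Q q hq
  rw [nu, S.lf.π_mul _ hp _ (inv_mem hp'), S.lf.π_inv hp', nu, S.lf.π_mul _ hq _ (inv_mem hq'),
    S.lf.π_inv hq'] at e
  have hr : q⁻¹ * p ∈ qImg Q := mul_mem (inv_mem hq) hp
  have hfix : δ (q⁻¹ * p) = q⁻¹ * p := by
    refine (S.fx.full' _ hr ?_).2
    rw [map_mul, map_inv, S.lf.π_mul _ (inv_mem hq') _ hp', S.lf.π_inv hq', S.lf.π_mul _ (inv_mem hq) _ hp,
      S.lf.π_inv hq]
    refine eq_of_add_zero ?_
    calc π (δ q) + π (δ p) + (π q + π p) = π p + π (δ p) + (π q + π (δ q)) := by abel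
      _ = 0 := by rw [e, two_V6]
  rw [show p = q * (q⁻¹ * p) by group, nu_mul_fixed q hfix]

theorem t_value : ∃ q ∈ qImg Q, nu δ q = t := by
  obtain ⟨⟨x, x0, x1⟩, -⟩ := exists_dual S.v_ne
  obtain ⟨q, hq, eq'⟩ := S.lf.π_surj x
  refine ⟨q, hq, ?_⟩
  have hc : q * t = t * q := S.lf.commute_of_bs hq S.act.t_mem (by rw [eq', x0])
  rcases S.act.half q hc with e | e
  · have := ((S.fixed_iff hq).1 e).2
    rw [eq', x1] at this
    exact absurd this one_ne_zero
  · rw [nu, e, mul_inv_rev, inv_eq_of_mul_eq_one_right S.act.t_sq, ← mul_assoc, hc, mul_inv_cancel_right]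

end Side

end CfsgLib.Sporadic.Fi24Recognition
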