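import Cfsg.Agent.Lib.Sporadic.Fi24Recognition.Lines

/-!
# The involution `z` in the centraliser of the outer involution

`z` is a product of three commuting transpositions there, its centraliser there has order 318504960 and
moves the line of `t` in all possible ways.  Hence the outer involution has only the twists by
transpositions as conjugates commuting with it.
-/

set_option autoImplicit false
set_option maxRecDepth 100000
set_option linter.unusedSectionVars false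
set_option linter.style.haveILetI false

open Cfsg.Spor

namespace CfsgLib.Sporadic.Fi24Recognition

open LargeFischer LargeFischerOuter
open CosetCert.Fi23P (tr)
open FiTransfer23 (classTr classTr_conj)

variable {G : Type*} [Group G] [Finite G] {z t : G} {Q : Subgroup (Subgroup.centralizer ({z} : Set G))} [Q.Normal]
  {π : G → V6} {ψ : ↥(Subgroup.centralizer ({z} : Set G)) →* (V6 ≃ₗ[ZMod 2] V6)} {δ : MulAut G}
  {c : ↥(Subgroup.centralizer ({z} : Set G))}

/-- The fixed points centralising `z`. -/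
def fixCz (z : G) (δ : MulAut G) : Subgroup ↥(Subgroup.centralizer ({z} : Set G)) where
  carrier := {y | δ (y : G) = y}
  one_mem' := map_one δ
  mul_mem' := fun {a b} ha hb => by
    show δ ((a : G) * b) = a * b
    rw [map_mul, show δ (a : G) = a from ha, show δ (b : G) = b from hb]
  inv_mem' := fun {a} ha => by
    show δ (a : G)⁻¹ = (a : G)⁻¹
    rw [map_inv, show δ (a : G) = a from ha]

/-- The stabiliser of the point of `t`. -/
def stabV (π : G → V6) (t : G) (ψ : ↥(Subgroup.centralizer ({z} : Set G)) →* (V6 ≃ₗ[ZMod 2] V6)) : Set (V6 ≃ₗ[ZMod 2] V6) := {k | k ∈ ψ.range ∧ k (π t) = π t}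

namespace Side

variable {φ : Fi23 →* G} (S : Side z t Q π ψ δ c φ)
include S

theorem fix_chart (h : Fi23) : δ (φ h) = φ h := (S.fix_iff _).2 ⟨h, rfl⟩

/-- A fixed element centralising `z` moves `t` to the value over its image. -/
theorem move_t {y : ↥(Subgroup.centralizer ({z} : Set G))} (hy : y ∈ (fixCz z δ)) :
    ∃ q ∈ qImg Q, nu δ q = (y : G) * t * (y : G)⁻¹ := by
  obtain ⟨q, hq, e⟩ := S.t_value
  refine ⟨(y : G) * q * (y : G)⁻¹, (S.lf.π_conj y hq).1, ?_⟩
  have hy' : δ (y : G)⁻¹ = (y : G)⁻¹ := by rw [map_inv, show δ (y : G) = y from hy]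
  rw [nu_mul_fixed _ hy', nu_fixed_mul hy, e]

/-- It moves the point of `t` inside the line. -/
theorem move_point {y : ↥(Subgroup.centralizer ({z} : Set G))} (hy : y ∈ (fixCz z δ)) :
    ψ y (π t) ∈ ({π t, omV (π t), omV (omV (π t))} : Set V6) := by
  obtain ⟨q, hq, e⟩ := S.move_t hy
  have h1 := (S.nu_Q hq).2
  rw [e, S.lf.act y t S.act.t_mem] at h1
  rcases h1 with h1 | h1 | h1 | h1
  · exact absurd ((ψ y).injective (h1.trans (map_zero _).symm)) S.v_ne
  · exact Or.inl h1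
  · exact Or.inr (Or.inl h1)
  · exact Or.inr (Or.inr h1)

theorem stab_finite : (stabV π t ψ).Finite := by
  haveI := S.lf.model.finite_K
  exact (Set.toFinite (ψ.range : Set (V6 ≃ₗ[ZMod 2] V6))).subset fun k hk => hk.1

theorem card_stabV : (stabV π t ψ).ncard = 51840 := by
  have h := card_stabilizer S.lf.model (π t)
  rw [S.lf.model.orb_eq S.orb, S.lf.model.two_orbits.2.1] at h
  have e : (stabV π t ψ).ncard = Nat.card (MulAction.stabilizer ψ.range (π t)) := by
    rw [← Nat.card_coe_set_eq]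
    exact Nat.card_congr
      { toFun := fun k => ⟨⟨k, k.2.1⟩, k.2.2⟩
        invFun := fun k => ⟨k.1, k.1.2, k.2⟩
        left_inv := fun k => rfl
        right_inv := fun k => rfl }
  omega

/-- The bound with a given set of images of the point and of the stabiliser. -/
theorem card_fixCz_le (P : Set V6) (hP : ∀ y ∈ (fixCz z δ), ψ y (π t) ∈ P) (R : Set (V6 ≃ₗ[ZMod 2] V6))
    (hR : ∀ y ∈ (fixCz z δ), ψ y (π t) = π t → ψ y ∈ R) (hRf : R.Finite) :
    Nat.card (fixCz z δ) ≤ P.ncard * (R.ncard * 2048) := by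
  let J : Subgroup ↥(Subgroup.centralizer ({z} : Set G)) :=
    { carrier := {y | y ∈ (fixCz z δ) ∧ ψ y (π t) = π t}
      one_mem' := ⟨one_mem _, by rw [map_one]; rfl⟩
      mul_mem' := fun {a b} ha hb => ⟨mul_mem ha.1 hb.1, by
        rw [map_mul]; show ψ a (ψ b (π t)) = _; rw [hb.2, ha.2]⟩
      inv_mem' := fun {a} ha => ⟨inv_mem ha.1, by
        rw [map_inv]; show (ψ a).symm (π t) = _; rw [LinearEquiv.symm_apply_eq, ha.2]⟩ }
  have h1 := card_le_mul_stab (fixCz z δ) J (fun y => ψ y (π t)) P (Set.toFinite _) hP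
    fun g hg g' hg' e => ⟨mul_mem (inv_mem hg) hg', by
      rw [map_mul, map_inv]
      show (ψ g).symm (ψ g' (π t)) = _
      rw [LinearEquiv.symm_apply_eq]; exact e.symm⟩
  refine h1.trans (Nat.mul_le_mul_left _ ?_)
  let K0 : Subgroup ↥(Subgroup.centralizer ({z} : Set G)) :=
    (fixQ (qImg Q) δ).subgroupOf (Subgroup.centralizer ({z} : Set G))
  have h2 := card_le_mul_stab J K0 (fun y => ψ y) R hRf (fun y hy => hR y hy.1 hy.2)
    fun g hg g' hg' e => Subgroup.mem_subgroupOf.2 (mem_fixQ.2 ⟨(S.lf.ker (g⁻¹ * g')).1 (by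
      rw [map_mul, map_inv]; exact inv_mul_eq_one.2 e), (show g⁻¹ * g' ∈ (fixCz z δ) from mul_mem (inv_mem hg.1) hg'.1)⟩)
  refine h2.trans (Nat.mul_le_mul_left _ ?_)
  rw [Nat.card_congr (Subgroup.subgroupOfEquivOfLe (show fixQ (qImg Q) δ ≤ Subgroup.centralizer ({z} : Set G) from
    fun a ha => S.lf.mem_cent (mem_fixQ.1 ha).1)).toEquiv, S.fx.card]

theorem card_line : ({π t, omV (π t), omV (omV (π t))} : Set V6).ncard ≤ 3 := by
  refine (Set.ncard_insert_le _ _).trans (Nat.succ_le_succ ?_)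
  refine (Set.ncard_insert_le _ _).trans (Nat.succ_le_succ ?_)
  rw [Set.ncard_singleton]

theorem fixCz_le : Nat.card (fixCz z δ) ≤ 318504960 := by
  refine (S.card_fixCz_le _ (fun y hy => S.move_point hy) (stabV π t ψ) (fun y _ e => ⟨⟨y, rfl⟩, e⟩) S.stab_finite).trans ?_
  have := S.card_line
  rw [S.card_stabV]
  omega

/-- A subgroup of Fi23 centralising the preimage of `z` is small. -/
theorem chart_centralizer_le {z₀ : Fi23} (hz₀ : φ z₀ = z) (T : Subgroup Fi23)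
    (hT : T ≤ Subgroup.centralizer ({z₀} : Set Fi23)) : Nat.card T ≤ Nat.card (fixCz z δ) := by
  refine Nat.card_le_card_of_injective (fun y : ↥T => (⟨⟨φ y, ?_⟩, S.fix_chart y⟩ : ↥(fixCz z δ))) ?_
  · rw [Subgroup.mem_centralizer_singleton_iff, ← hz₀, ← map_mul, ← map_mul,
      Subgroup.mem_centralizer_singleton_iff.1 (hT y.2)]
  · intro a b e
    exact Subtype.ext (S.inj (congrArg (fun x : ↥(fixCz z δ) => ((x : ↥(Subgroup.centralizer ({z} : Set G))) : G)) e))

/-- `z` is a product of three commuting transpositions. -/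
theorem z_triple : ∃ a b d : Fi23, a ∈ classTr ∧ b ∈ classTr ∧ d ∈ classTr ∧ a ≠ b ∧ a ≠ d ∧ b ≠ d ∧
    Commute a b ∧ Commute a d ∧ Commute b d ∧ φ (a * b * d) = z := by
  obtain ⟨z₀, hz₀⟩ := (S.fix_iff z).1 S.act.fix_z
  have hz2 : orderOf z₀ = 2 := by rw [← orderOf_injective φ S.inj, hz₀, S.lf.ord_z]
  rcases involution_cases hz2 with h | ⟨a, b, ha, hb, hne, hc, e⟩ |
      ⟨a, b, d, ha, hb, hd, h1, h2, h3, c1, c2, c3, e⟩
  · obtain ⟨g, hg⟩ := FiTransfer23.Instance.conjugate classTr_mem h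
    refine absurd (IsConj.symm (isConj_iff.2 ⟨φ g, ?_⟩)) S.nconj
    rw [← S.tr_eq, ← hz₀, ← hg, map_mul, map_mul, map_inv]
  · have h1 := (card_pair ha hb hne hc).trans (S.chart_centralizer_le hz₀ _ fun y hy => ?_)
    · have := S.fixCz_le
      omega
    rw [Subgroup.mem_centralizer_singleton_iff, e]
    have ya : Commute y a := (Subgroup.mem_centralizer_iff.1 hy a (Set.mem_insert _ _)).symm
    have yb : Commute y b := (Subgroup.mem_centralizer_iff.1 hy b (Set.mem_insert_of_mem _ rfl)).symm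
    exact (ya.mul_right yb).eq
  · exact ⟨a, b, d, ha, hb, hd, h1, h2, h3, c1, c2, c3, e ▸ hz₀⟩

theorem fixCz_card : 318504960 ≤ Nat.card (fixCz z δ) := by
  obtain ⟨a, b, d, ha, hb, hd, h1, h2, h3, c1, c2, c3, e⟩ := S.z_triple
  exact (card_triple ha hb hd h1 h2 h3 c1 c2 c3).trans (S.chart_centralizer_le e _ le_rfl)

/-- All points of the line are reached. -/
theorem reach_point {w : V6} (hw : w ∈ ({π t, omV (π t), omV (omV (π t))} : Set V6)) :
    ∃ y ∈ (fixCz z δ), ψ y (π t) = w := by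
  by_contra hno
  push Not at hno
  have h := S.card_fixCz_le (({π t, omV (π t), omV (omV (π t))} : Set V6) \ {w})
    (fun y hy => ⟨S.move_point hy, hno y hy⟩) (stabV π t ψ) (fun y _ e => ⟨⟨y, rfl⟩, e⟩) S.stab_finite
  have h1 := S.card_line
  rw [Set.ncard_diff_singleton_of_mem hw, S.card_stabV] at h
  have h2 := S.fixCz_card
  omega

/-- The stabiliser of the point is covered. -/
theorem reach_stab {k : V6 ≃ₗ[ZMod 2] V6} (hk : k ∈ (stabV π t ψ)) : ∃ y ∈ (fixCz z δ), ψ y = k := by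
  by_contra hno
  push Not at hno
  have h := S.card_fixCz_le _ (fun y hy => S.move_point hy) ((stabV π t ψ) \ {k})
    (fun y hy e => ⟨⟨⟨y, rfl⟩, e⟩, hno y hy⟩) (S.stab_finite.subset Set.sdiff_subset)
  have h1 := S.card_line
  rw [Set.ncard_diff_singleton_of_mem hk, S.card_stabV] at h
  have h2 := S.fixCz_card
  omega

/-- The values of `nu` on `Q` are one and transpositions, one over each point of the line. -/
theorem nu_Q_tr {q : G} (hq : q ∈ qImg Q) (hne : nu δ q ≠ 1) :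
    ∃ x ∈ classTr, φ x = nu δ q := by
  have hp : π (nu δ q) ∈ ({π t, omV (π t), omV (omV (π t))} : Set V6) := by
    rcases (S.nu_Q hq).2 with h | h | h | h
    · exact absurd (S.nu_Q_eq_one hq h) hne
    · exact Or.inl h
    · exact Or.inr (Or.inl h)
    · exact Or.inr (Or.inr h)
  obtain ⟨y, hy, e⟩ := S.reach_point hp
  obtain ⟨p, hpQ, ep⟩ := S.move_t hy
  have : nu δ p = nu δ q := S.nu_Q_inj hpQ hq (by rw [ep, S.lf.act y t S.act.t_mem, e])
  rw [← this, ep]
  obtain ⟨g, hg⟩ := (S.fix_iff _).1 (show δ (y : G) = y from hy)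
  exact ⟨g * tr * g⁻¹, classTr_conj classTr_mem, by rw [map_mul, map_mul, map_inv, hg, S.tr_eq]⟩

/-- `t z` is a pair. -/
theorem tz_pair : ∃ a b : Fi23, a ∈ classTr ∧ b ∈ classTr ∧ a ≠ b ∧ Commute a b ∧ φ (a * b) = t * z := by
  obtain ⟨h0, h1⟩ := omV_ne S.v_ne
  have val : ∀ w, w = omV (π t) ∨ w = omV (omV (π t)) → ∃ x ∈ classTr, φ x ∈ qImg Q ∧ π (φ x) = w := by
    intro w hw
    obtain ⟨y, hy, e⟩ := S.reach_point (show w ∈ ({π t, omV (π t), omV (omV (π t))} : Set V6) from Or.inr hw)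
    obtain ⟨g, hg⟩ := (S.fix_iff _).1 (show δ (y : G) = y from hy)
    have e1 : φ (g * tr * g⁻¹) = (y : G) * t * (y : G)⁻¹ := by rw [map_mul, map_mul, map_inv, hg, S.tr_eq]
    exact ⟨g * tr * g⁻¹, classTr_conj classTr_mem, e1 ▸ (S.lf.π_conj y S.act.t_mem).1,
      by rw [e1, S.lf.act y t S.act.t_mem, e]⟩
  obtain ⟨a, ha, haQ, ea⟩ := val _ (Or.inl rfl)
  obtain ⟨b, hb, hbQ, eb⟩ := val _ (Or.inr rfl)
  have hne : a ≠ b := fun e => by
    rw [e, eb, omV_sq] at ea
    exact S.v_ne (add_eq_right.1 ea)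
  have hc : Commute a b := S.inj (by
    rw [map_mul, map_mul]
    refine S.lf.commute_of_bs haQ hbQ ?_
    rw [ea, eb, bs_omV, bs_om_self, S.v_sing])
  refine ⟨a, b, ha, hb, hne, hc, ?_⟩
  have hπ : π (φ (a * b)) = π t := by
    rw [map_mul, S.lf.π_mul _ haQ _ hbQ, ea, eb, omV_sq, add_comm (π t), ← add_assoc, two_V6, zero_add]
  rcases (S.lf.π_eq_iff S.act.t_mem (show φ (a * b) ∈ qImg Q by rw [map_mul]; exact mul_mem haQ hbQ)).1
      hπ.symm with e | e
  · refine absurd ?_ (mul_not_classTr ha hb hne hc)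
    rw [S.inj (e.trans S.tr_eq.symm)]
    exact classTr_mem
  · exact e

/-- A fixed involution is conjugate under the fixed points to `t`, `t z` or `z`. -/
theorem fixed_involution {u : G} (hu : δ u = u) (hu2 : u * u = 1) (hu1 : u ≠ 1) :
    (∃ x ∈ classTr, φ x = u) ∨ ∃ h : Fi23, φ h * (t * z) * (φ h)⁻¹ = u ∨ φ h * z * (φ h)⁻¹ = u := by
  obtain ⟨x, rfl⟩ := (S.fix_iff u).1 hu
  have hx : orderOf x = 2 := by
    rw [← orderOf_injective φ S.inj]
    exact orderOf_eq_prime (hp := ⟨Nat.prime_two⟩) (by rw [pow_two, hu2]) hu1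
  rcases involution_cases hx with h | ⟨a, b, ha, hb, hne, hc, rfl⟩ |
      ⟨a, b, d, ha, hb, hd, h1, h2, h3, c1, c2, c3, rfl⟩
  · exact Or.inl ⟨x, h, rfl⟩
  · obtain ⟨a', b', ha', hb', hne', hc', e⟩ := S.tz_pair
    obtain ⟨g, hg⟩ := pair_conj ha' hb' hne' hc' ha hb hne hc
    exact Or.inr ⟨g, Or.inl (by rw [← e, ← map_inv, ← map_mul, ← map_mul, hg])⟩
  · obtain ⟨a', b', d', ha', hb', hd', k1, k2, k3, m1, m2, m3, e⟩ := S.z_triple
    obtain ⟨g, hg⟩ := triple_conj ha' hb' hd' k1 k2 k3 m1 m2 m3 ha hb hd h1 h2 h3 c1 c2 c3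
    exact Or.inr ⟨g, Or.inr (by rw [← e, ← map_inv, ← map_mul, ← map_mul, hg])⟩

theorem conj_t_of_tr {x : Fi23} (hx : x ∈ classTr) : ∃ h : Fi23, φ h * t * (φ h)⁻¹ = φ x := by
  obtain ⟨h, rfl⟩ := FiTransfer23.Instance.conjugate classTr_mem hx
  exact ⟨h, by rw [map_mul, map_mul, map_inv, S.tr_eq]⟩

theorem exists_tz : ∃ q ∈ qImg Q, q * t * q⁻¹ = t * z :=
  S.lf.extra.exists_conj_eq S.act.t_mem S.act.t_ne_one S.act.t_ne_z

/-- A conjugate of `z` that is fixed is conjugate to it under the fixed points. -/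
theorem fixed_conj_z {g : G} (hu : δ (g⁻¹ * z * g) = g⁻¹ * z * g) :
    ∃ h : Fi23, Commute (g * φ h) z := by
  have h2 : g⁻¹ * z * g * (g⁻¹ * z * g) = 1 := by
    rw [show g⁻¹ * z * g * (g⁻¹ * z * g) = g⁻¹ * (z * z) * g by group, S.lf.extra.z_sq]; group
  have hne : g⁻¹ * z * g ≠ 1 := fun e => S.lf.extra.z_ne (by
    calc z = g * (g⁻¹ * z * g) * g⁻¹ := by group
      _ = 1 := by rw [e, mul_one, mul_inv_cancel])
  rcases S.fixed_involution hu h2 hne with ⟨x, hx, e⟩ | ⟨h, e | e⟩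
  · obtain ⟨h, eh⟩ := S.conj_t_of_tr hx
    refine absurd (IsConj.symm (isConj_iff.2 ⟨g * φ h, ?_⟩)) S.nconj
    rw [show g * φ h * t * (g * φ h)⁻¹ = g * (φ h * t * (φ h)⁻¹) * g⁻¹ by group, eh, e]; group
  · obtain ⟨q, -, eq'⟩ := S.exists_tz
    refine absurd (IsConj.symm (isConj_iff.2 ⟨g * φ h * q, ?_⟩)) S.nconj
    rw [show g * φ h * q * t * (g * φ h * q)⁻¹ = g * (φ h * (q * t * q⁻¹) * (φ h)⁻¹) * g⁻¹ by group, eq', e]
    group
  · refine ⟨h, ?_⟩
    show g * φ h * z = z * (g * φ h)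
    calc g * φ h * z = g * (φ h * z * (φ h)⁻¹) * φ h := by group
      _ = z * (g * φ h) := by rw [e]; group

/-- Only one and transpositions occur over the line. -/
theorem line_values {g : G} {a : G} (ha : a ∈ qImg Q) (hl : OnLine (π t) (π a)) (hg : nu δ g = a) :
    ∃ q ∈ qImg Q, nu δ q = a := by
  obtain ⟨hfix, ha2, -⟩ := S.on_line_facts ha hl
  have hai : a⁻¹ = a := inv_eq_of_mul_eq_one_right ha2
  have hδg : δ g = a * g := by
    rw [← hai, ← hg, nu, mul_inv_rev, inv_inv, inv_mul_cancel_right]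
  have haz : a * z = z * a := S.lf.cent_z ha
  have hu : δ (g⁻¹ * z * g) = g⁻¹ * z * g := by
    rw [map_mul, map_mul, map_inv, S.act.fix_z, hδg, mul_inv_rev, hai,
      show g⁻¹ * a * z * (a * g) = g⁻¹ * (a * z * a) * g by group, haz, mul_assoc z a a, ha2, mul_one]
  obtain ⟨h, hc⟩ := S.fixed_conj_z hu
  set m : ↥(Subgroup.centralizer ({z} : Set G)) := ⟨g * φ h, Subgroup.mem_centralizer_singleton_iff.2 hc.eq⟩
  have hδm : δ (g * φ h) = a * (g * φ h) := by rw [map_mul, hδg, S.fix_chart, mul_assoc]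
  have hψ : ψ (restr δ S.act.fix_z m) = ψ m := by
    have e : restr δ S.act.fix_z m = ⟨a, S.lf.mem_cent ha⟩ * m := Subtype.ext hδm
    rw [e, map_mul, (S.lf.ker ⟨a, S.lf.mem_cent ha⟩).2 ha, one_mul]
  have hkeep := (diff_mem S.lf S.act S.fx (g := m⁻¹) (by rw [map_inv, map_inv, map_inv, hψ])).1
  have hline : OnLine (π t) (ψ m (π t)) := by
    refine onLine_of_perp S.v_ne fun w h1 h2 => ?_
    obtain ⟨b, hb, eb⟩ := S.lf.π_surj w
    have hb' := hkeep b (mem_fixQ.2 ⟨hb, (S.fixed_iff hb).2 ⟨eb ▸ h1, eb ▸ h2⟩⟩)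
    have h3 := ((S.fixed_iff hb'.1).1 (mem_fixQ.1 hb').2).1
    rw [S.lf.act m⁻¹ b hb, eb] at h3
    rw [bs_comm] at h3
    have h4 := S.lf.model.bs_map (⟨m, rfl⟩ : ψ m ∈ ψ.range) (π t) (ψ m⁻¹ w)
    rw [h3, show ψ m (ψ m⁻¹ w) = w by
      show (ψ m * ψ m⁻¹) w = w
      rw [← map_mul, mul_inv_cancel, map_one]; rfl] at h4
    exact h4
  obtain ⟨y, hy, ey⟩ : ∃ y ∈ (fixCz z δ), ψ y (π t) = ψ m (π t) := by
    rcases hline with h | h | h | h
    · exact absurd ((ψ m).injective (h.trans (map_zero _).symm)) S.v_ne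
    · exact S.reach_point (Or.inl h)
    · exact S.reach_point (Or.inr (Or.inl h))
    · exact S.reach_point (Or.inr (Or.inr h))
  obtain ⟨y', hy', ey'⟩ := S.reach_stab (k := ψ (y⁻¹ * m)) ⟨⟨_, rfl⟩, by
    rw [map_mul, map_inv]
    show (ψ y).symm (ψ m (π t)) = π t
    rw [LinearEquiv.symm_apply_eq, ey]⟩
  have hr : ((y * y')⁻¹ * m : ↥(Subgroup.centralizer ({z} : Set G))) ∈ Q := by
    refine mem_qImg_coe.1 ((S.lf.ker _).1 ?_)
    rw [map_mul, map_inv, map_mul, ey', map_mul, map_inv, mul_inv_cancel_left, inv_mul_cancel]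
  set r : G := (((y * y')⁻¹ * m : ↥(Subgroup.centralizer ({z} : Set G))) : G)
  have hrQ : r ∈ qImg Q := mem_qImg_coe.2 hr
  set p : G := ((y * y' : ↥(Subgroup.centralizer ({z} : Set G))) : G)
  have hp : δ p = p := show y * y' ∈ (fixCz z δ) from mul_mem hy hy'
  refine ⟨p * r * p⁻¹, (S.lf.π_conj (y * y') hrQ).1, ?_⟩
  rw [nu_mul_fixed _ (show δ p⁻¹ = p⁻¹ by rw [map_inv, hp]), show p * r = g * φ h by
    show p * (p⁻¹ * (g * φ h)) = g * φ h
    rw [mul_inv_cancel_left], nu_mul_fixed _ (S.fix_chart h), hg]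

theorem nu_ne_z (g : G) : nu δ g ≠ z := by
  intro e
  obtain ⟨q, hq, eq'⟩ := S.line_values S.lf.extra.z_mem (Or.inl S.lf.π_z) e
  exact S.lf.extra.z_ne (eq'.symm.trans (S.nu_Q_eq_one hq (by rw [eq']; exact S.lf.π_z)))

theorem nu_ne_tz (g : G) : nu δ g ≠ t * z := by
  intro e
  have hπ : π (t * z) = π t := by
    rw [S.lf.π_mul _ S.act.t_mem _ S.lf.extra.z_mem, S.lf.π_z, add_zero]
  obtain ⟨q, hq, eq'⟩ := S.line_values (mul_mem S.act.t_mem S.lf.extra.z_mem) (Or.inr (Or.inl hπ)) e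
  obtain ⟨p, hp, ep⟩ := S.t_value
  have := S.nu_Q_inj hq hp (by rw [eq', ep, hπ])
  rw [eq', ep] at this
  exact S.lf.extra.z_ne (mul_eq_left.1 this)

/-- A conjugate of the outer involution commuting with it is a twist by a transposition. -/
theorem nu_fixed_tr {g : G} (hf : δ (nu δ g) = nu δ g) (hne : nu δ g ≠ 1) : ∃ x ∈ classTr, φ x = nu δ g := by
  have hinv : δ (nu δ g) = (nu δ g)⁻¹ := by rw [nu, map_mul, map_inv, S.inv, mul_inv_rev, inv_inv]
  have h2 : nu δ g * nu δ g = 1 := by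
    nth_rw 2 [← hf]
    rw [hinv, mul_inv_cancel]
  have back : ∀ (h : Fi23) (a : G), φ h * a * (φ h)⁻¹ = nu δ g → nu δ ((φ h)⁻¹ * g) = a := by
    intro h a e
    rw [nu_fixed_mul (show δ (φ h)⁻¹ = (φ h)⁻¹ by rw [map_inv, S.fix_chart]), ← e]; group
  rcases S.fixed_involution hf h2 hne with h | ⟨h, e | e⟩
  · exact h
  · exact absurd (back h _ e) (S.nu_ne_tz _)
  · exact absurd (back h _ e) (S.nu_ne_z _)

/-- The twist by `t` occurs. -/
theorem twist_occurs {x : Fi23} (hx : x ∈ classTr) : ∃ g, nu δ g = φ x := by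
  obtain ⟨q, -, eq'⟩ := S.t_value
  obtain ⟨h, e⟩ := S.conj_t_of_tr hx
  exact ⟨φ h * q, by rw [nu_fixed_mul (S.fix_chart h), eq', e]⟩

end Side

end CfsgLib.Sporadic.Fi24Recognition
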