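import Cfsg.Agent.Lib.Sporadic.Fi24Recognition.Frame
import Cfsg.Agent.Lib.Sporadic.Fi24Model.Instance
import Cfsg.Agent.Lib.ThreeTransp.TypeTwentyFour.Base

/-!
# The frame of the presented Fi24
-/

set_option autoImplicit false
set_option maxRecDepth 100000

open Cfsg.Spor

namespace CfsgLib.Sporadic.Fi24Recognition

open CosetCert CosetCert.Fi23P FischerTransitivity
open FiTransfer23 (classTr classTr_conj)

/-- The facts on Fi24 make a frame. -/
theorem frame_of_facts {G : Type*} [Group G] {φ : Fi23 →* G} {l k : G} (F : Fi24Model.Facts φ l k) :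
    Frame φ l := by
  refine ⟨F.l_sq, F.inj, F.comm, F.cent, F.not_mem, fun e he hc hne => ?_, fun x hx => ?_⟩
  · obtain ⟨x, hx, h⟩ := F.nb_eq.subset (show e ∈ Nb (conjugatesOf l) l from ⟨he, hne, hc.symm⟩)
    exact ⟨x, hx, h.symm⟩
  · exact (F.nb_eq.symm.subset ⟨x, hx, rfl⟩ : φ x * l ∈ Nb (conjugatesOf l) l).1

/-- In Fi24 the twists commuting with `k` are a conjugate of the transpositions of `PΩ₈⁺(3):S₃`. -/
theorem com_of_facts {G : Type*} [Group G] [Finite G] {φ : Fi23 →* G} {l k : G} (F : Fi24Model.Facts φ l k)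
    (g : Fi23) (hL : ∀ a ∈ Fi23Tri.L, g * a * g⁻¹ ∈ F.pairStab) :
    Com φ l k = (fun x => g * x * g⁻¹) '' {x | x ∈ classTr ∧ x ∈ Fi23Tri.L} := by
  haveI : Finite Fi23 := CosetCert.Fi23P.finite
  set M := {x | x ∈ classTr ∧ Commute k (φ x * l)} with hM
  have hCom : Com φ l k = M := Set.ext fun x => and_congr_right fun _ => ⟨Commute.symm, Commute.symm⟩
  have hsub : (fun x => g * x * g⁻¹) '' {x | x ∈ classTr ∧ x ∈ Fi23Tri.L} ⊆ M := by
    rintro _ ⟨x, hx, rfl⟩
    exact ⟨classTr_conj hx.1, F.twisted_of_stab (classTr_conj hx.1) (hL x hx.2)⟩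
  have hMeq : Subgroup.closure M = Fi23Tri.L.map (MulAut.conj g).toMonoidHom := by
    have h1 : Fi23Tri.L.map (MulAut.conj g).toMonoidHom ≤ Subgroup.closure M := by
      refine Subgroup.map_le_iff_le_comap.2 ?_
      conv_lhs => rw [← (Fi23Tri.isDSubgroup_L : Subgroup.closure _ = Fi23Tri.L)]
      exact (Subgroup.closure_le _).2 fun x hx => Subgroup.subset_closure (hsub ⟨x, hx, rfl⟩)
    refine (Subgroup.eq_of_le_of_card_ge h1 ?_).symm
    have h2 : Subgroup.closure M ≤ F.pairStab :=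
      (Subgroup.closure_le _).2 fun x hx => Or.inr hx.2
    refine (Subgroup.card_le_of_le h2).trans (F.card_pairStab.trans ?_)
    rw [Subgroup.card_map_of_injective (MulAut.conj g).injective]
    haveI := Fi23Tri.E_subgroupOf_normal
    have h3 := (Fi23Tri.E.subgroupOf Fi23Tri.L).index_mul_card
    obtain ⟨q⟩ := Fi23Tri.quotient_iso Fi23Tri.E_subgroupOf_normal
    obtain ⟨eE⟩ := Fi23Tri.E_pomega
    rw [Subgroup.index, Nat.card_congr q.toEquiv, Nat.card_perm, Nat.card_fin,
      Nat.card_congr ((Subgroup.subgroupOfEquivOfLe Fi23Tri.E_le).trans eE).toEquiv,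
      ThreeTransp.TypeTwentyFour.card_pomega] at h3
    rw [← h3]
    decide
  rw [hCom]
  refine Set.Subset.antisymm (fun x hx => ?_) hsub
  obtain ⟨a, ha, e⟩ := hMeq.le (Subgroup.subset_closure hx)
  have e' : g * a * g⁻¹ = x := e
  refine ⟨a, ⟨?_, ha⟩, e'⟩
  have := classTr_conj (g := g⁻¹) hx.1
  rwa [← e', inv_inv, show g⁻¹ * (g * a * g⁻¹) * g = a by group] at this

end CfsgLib.Sporadic.Fi24Recognition
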