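import Cfsg.Agent.Lib.Sporadic.Fi24Recognition.Members

/-!
# Two conjugates of the outer involution commuting with one inner involution

They commute with a third conjugate: for an involution of the class of `t` that is the twisted one, for
the class of `z` a point perpendicular to both lines gives it.
-/

set_option autoImplicit false
set_option maxRecDepth 100000
set_option linter.unusedSectionVars false
set_option linter.style.haveILetI false

open Cfsg.Spor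

namespace CfsgLib.Sporadic.Fi24Recognition

open LargeFischer LargeFischerOuter
open CosetCert.Fi23P (tr)
open FiTransfer23 (classTr classTr_conj)

/-- The polar form of the norm. -/
def pn (a b : D4) : ZMod 2 := nzd (a + b) + nzd a + nzd b

theorem bs_eq_sum (u w : V6) : bs u w = ∑ i, pn (u i) (w i) := by
  simp only [bs, qs, pn, ← Finset.sum_add_distrib, Pi.add_apply]

theorem pn_zero : ∀ b : D4, pn 0 b = 0 ∧ pn b 0 = 0 := by decide

theorem two_coordinates : ∀ a b c d : D4, ∃ p q r s : D4,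
    (if p ≠ 0 then 1 else 0) + (if q ≠ 0 then 1 else 0) + (if r ≠ 0 then 1 else 0) + (if s ≠ 0 then 1 else 0) = 2 ∧
      pn p a + pn q b + pn r c + pn s d = 0 ∧
      pn p (om a) + pn q (om b) + pn r (om c) + pn s (om d) = 0 := by
  decide +kernel

/-- A vector of weight two perpendicular to the line of `c2` and to another line. -/
theorem exists_perp (w : V6) : ∃ u : V6, wt u = 2 ∧ bs u c2 = 0 ∧ bs u (omV c2) = 0 ∧
    bs u (omV (omV c2)) = 0 ∧ bs u w = 0 ∧ bs u (omV w) = 0 ∧ bs u (omV (omV w)) = 0 := by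
  obtain ⟨p, q, r, s, hn, h1, h2⟩ := two_coordinates (w 2) (w 3) (w 4) (w 5)
  refine ⟨![0, 0, p, q, r, s], ?_, ?_⟩
  · rw [wt, Finset.card_filter, Fin.sum_univ_six]
    simp only [ne_eq, ite_not, Matrix.cons_val_zero, Matrix.cons_val_one, Matrix.cons_val] at hn ⊢
    by_cases hp : p = 0 <;> by_cases hq : q = 0 <;> by_cases hr : r = 0 <;> by_cases hs : s = 0 <;>
      simp [hp, hq, hr, hs] at hn ⊢
  have hcoord : ∀ x : V6, bs ![0, 0, p, q, r, s] x = pn p (x 2) + pn q (x 3) + pn r (x 4) + pn s (x 5) := by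
    intro x
    rw [bs_eq_sum, Fin.sum_univ_six]
    simp [(pn_zero _).1]
  have e1 : bs ![0, 0, p, q, r, s] w = 0 := by rw [hcoord]; exact h1
  have e2 : bs ![0, 0, p, q, r, s] (omV w) = 0 := by rw [hcoord]; exact h2
  have hz : ∀ x : V6, x 2 = 0 → x 3 = 0 → x 4 = 0 → x 5 = 0 → bs ![0, 0, p, q, r, s] x = 0 := by
    intro x a b c d
    rw [hcoord, a, b, c, d]
    simp [(pn_zero _).2]
  refine ⟨hz _ rfl rfl rfl rfl, hz _ ?_ ?_ ?_ ?_, hz _ ?_ ?_ ?_ ?_, e1, e2, ?_⟩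
  all_goals first
    | decide
    | rw [omV_sq, bs_add, e1, e2, add_zero]

variable {G : Type*} [Group G]

/-- The conjugates given by `g` and `f` commute. -/
def Rel (δ : MulAut G) (g f : G) : Prop := δ (nu δ (g⁻¹ * f)) = nu δ (g⁻¹ * f)

theorem Rel.swap {δ : MulAut G} (hinv : ∀ g, δ (δ g) = g) {g f : G} (h : Rel δ g f) : Rel δ f g := by
  set x := g⁻¹ * f with hx
  have e : f⁻¹ * g = x⁻¹ := by rw [hx]; group
  have hν : ∀ y : G, δ (nu δ y) = (nu δ y)⁻¹ := fun y => by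
    rw [nu, map_mul, map_inv, hinv, mul_inv_rev, inv_inv]
  have h1 : δ (nu δ x) = nu δ x := h
  have h2 : nu δ x⁻¹ = x⁻¹ * (nu δ x)⁻¹ * x := by
    rw [nu, nu, map_inv, inv_inv, mul_inv_rev, inv_inv]; group
  show δ (nu δ (f⁻¹ * g)) = nu δ (f⁻¹ * g)
  have h3 : (nu δ x)⁻¹ = nu δ x := (hν x).symm.trans h1
  rw [h3] at h2
  rw [e, hν, h2]
  calc (x⁻¹ * nu δ x * x)⁻¹ = x⁻¹ * (nu δ x)⁻¹ * x := by group
    _ = x⁻¹ * nu δ x * x := by rw [h3]

variable [Finite G] {z t : G} {Q : Subgroup (Subgroup.centralizer ({z} : Set G))} [Q.Normal] {π : G → V6}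
  {ψ : ↥(Subgroup.centralizer ({z} : Set G)) →* (V6 ≃ₗ[ZMod 2] V6)} {δ : MulAut G}
  {c : ↥(Subgroup.centralizer ({z} : Set G))}

namespace Side

variable {φ : Fi23 →* G} (S : Side z t Q π ψ δ c φ)
include S

theorem rel_mul_fixed {g f : G} (h : δ (nu δ (g⁻¹ * f)) = nu δ (g⁻¹ * f)) (y : Fi23) :
    δ (nu δ (φ y * (g⁻¹ * f))) = nu δ (φ y * (g⁻¹ * f)) := by
  rw [nu_fixed_mul (S.fix_chart y), map_mul, map_mul, map_inv, S.fix_chart, h]

/-- A conjugate commuting with `t` commutes with the outer involution. -/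
theorem near_t {g : G} (hu : δ (g⁻¹ * t * g) = g⁻¹ * t * g) : δ (nu δ g) = nu δ g := by
  have h2 : g⁻¹ * t * g * (g⁻¹ * t * g) = 1 := by
    rw [show g⁻¹ * t * g * (g⁻¹ * t * g) = g⁻¹ * (t * t) * g by group, S.act.t_sq]; group
  have hne : g⁻¹ * t * g ≠ 1 := fun e => S.act.t_ne_one (by
    calc t = g * (g⁻¹ * t * g) * g⁻¹ := by group
      _ = 1 := by rw [e, mul_one, mul_inv_cancel])
  -- an element centralising `t` times one of `Q`
  suffices key : ∀ m a : G, Commute m t → δ a = a → Commute a t → δ (m * a * (δ m)⁻¹) = m * a * (δ m)⁻¹ by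
    rcases S.fixed_involution hu h2 hne with ⟨x, hx, e⟩ | ⟨h, e | e⟩
    · obtain ⟨h, eh⟩ := S.conj_t_of_tr hx
      have hm : Commute (g * φ h) t := by
        show g * φ h * t = t * (g * φ h)
        calc g * φ h * t = g * (φ h * t * (φ h)⁻¹) * φ h := by group
          _ = t * (g * φ h) := by rw [eh, e]; group
      rw [← nu_mul_fixed g (S.fix_chart h)]
      have := key _ 1 hm (map_one δ) (Commute.one_left t)
      rwa [mul_one] at this
    · obtain ⟨q, hq, eq'⟩ := S.exists_tz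
      set m := g * φ h * q with hmdef
      have hm : Commute m t := by
        show m * t = t * m
        calc m * t = g * (φ h * (q * t * q⁻¹) * (φ h)⁻¹) * (φ h * q) := by rw [hmdef]; group
          _ = t * m := by rw [eq', e, hmdef]; group
      obtain ⟨ha, hl⟩ := S.nu_Q (inv_mem hq)
      obtain ⟨hf, -, hc⟩ := S.on_line_facts ha hl
      have e2 : nu δ (m * q⁻¹) = m * nu δ q⁻¹ * (δ m)⁻¹ := by rw [nu, nu, map_mul, mul_inv_rev]; group
      rw [← nu_mul_fixed g (S.fix_chart h), show g * φ h = m * q⁻¹ by rw [hmdef]; group, e2]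
      exact key _ _ hm hf hc
    · refine absurd (isConj_iff.2 ⟨g * φ h, ?_⟩) S.nconj
      rw [show g * φ h * z * (g * φ h)⁻¹ = g * (φ h * z * (φ h)⁻¹) * g⁻¹ by group, e]; group
  intro m a hm ha hat
  rcases S.act.half m hm.eq with e | e
  · rw [e, map_mul, map_mul, map_inv, ha, e]
  · rw [e, map_mul, map_mul, map_inv, map_mul, ha, S.act.fix_t, e, mul_inv_rev, mul_inv_rev,
      inv_eq_of_mul_eq_one_right S.act.t_sq]
    calc m * t * a * (t * (t * m⁻¹)) = m * t * a * (t * t) * m⁻¹ := by group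
      _ = m * a * (t * m⁻¹) := by rw [S.act.t_sq, mul_one, mul_assoc m, ← hat.eq]; group

/-- A member between two members commuting with `z`. -/
theorem common_z (m : ↥(Subgroup.centralizer ({z} : Set G))) :
    ∃ f : G, δ (nu δ f) = nu δ f ∧ δ (nu δ ((m : G)⁻¹ * f)) = nu δ ((m : G)⁻¹ * f) := by
  obtain ⟨k, hk, hkv⟩ := S.lf.model.mem_orb.1 (show c2 ∈ S.lf.model.orb (π t) from
    (S.lf.model.orb_eq S.orb).symm ▸ S.lf.model.self_mem c2)
  obtain ⟨u', hw2, a1, a2, a3, b1, b2, b3⟩ := exists_perp (k (ψ m (π t)))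
  have hline : ∀ (g : V6 ≃ₗ[ZMod 2] V6) (x : V6), g ∈ ψ.range → bs u' (omV (g x)) = 0 → bs u' (omV (omV (g x))) = 0 →
      bs u' (g (omV x)) = 0 := fun g x hg p q => by
    rcases S.lf.model.scal g hg with e | e <;> rw [e] <;> assumption
  have hu' : u' ∈ S.lf.model.orb c2 := S.lf.model.canon_two hw2 ▸ S.lf.model.self_mem u'
  obtain ⟨g2, hg2, eg2⟩ := S.lf.model.mem_orb.1 hu'
  have hk' : k * ψ m ∈ ψ.range := mul_mem hk ⟨m, rfl⟩
  set u := k⁻¹ u' with hu
  have hmove : ∀ x, bs u x = bs u' (k x) := fun x => by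
    rw [← S.lf.model.bs_map hk u x, hu]
    congr 1
    exact k.apply_symm_apply u'
  have hfirst : bs u (π t) = 0 ∧ bs u (omV (π t)) = 0 :=
    ⟨by rw [hmove, hkv, a1], by rw [hmove]; exact hline k _ hk (by rw [hkv, a2]) (by rw [hkv, a3])⟩
  have hsecond : bs u (ψ m (π t)) = 0 ∧ bs u (ψ m (omV (π t))) = 0 :=
    ⟨by rw [hmove, b1], by rw [hmove]; exact hline (k * ψ m) _ hk' b2 b3⟩
  obtain ⟨r, ⟨r', hr'⟩, hr⟩ : ∃ r ∈ ψ.range, r (π t) = u := by
    refine ⟨k⁻¹ * (g2 * k), mul_mem (inv_mem hk) (mul_mem hg2 hk), ?_⟩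
    show k⁻¹ (g2 (k (π t))) = u
    rw [hkv, eg2]
  obtain ⟨ht', eπ⟩ := S.lf.π_conj r' S.act.t_mem
  rw [hr', hr] at eπ
  set t' := (r' : G) * t * (r' : G)⁻¹ with ht'def
  have h1 : δ t' = t' := (S.fixed_iff ht').2 (by rw [eπ]; exact hfirst)
  obtain ⟨hmem, eπ2⟩ := S.lf.π_conj m⁻¹ ht'
  rw [eπ] at eπ2
  have h2 : δ ((m⁻¹ : ↥(Subgroup.centralizer ({z} : Set G))) * t' * ((m⁻¹ : ↥(Subgroup.centralizer ({z} : Set G))) : G)⁻¹) =
      (m⁻¹ : ↥(Subgroup.centralizer ({z} : Set G))) * t' * ((m⁻¹ : ↥(Subgroup.centralizer ({z} : Set G))) : G)⁻¹ := by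
    refine (S.fixed_iff hmem).2 ?_
    have hback : ∀ x, bs (ψ m⁻¹ u) x = bs u (ψ m x) := fun x => by
      rw [← S.lf.model.bs_map (⟨m, rfl⟩ : ψ m ∈ ψ.range) (ψ m⁻¹ u) x]
      congr 1
      show (ψ m * ψ m⁻¹) u = u
      rw [← map_mul, mul_inv_cancel, map_one]; rfl
    rw [eπ2, hback, hback]
    exact hsecond
  refine ⟨(r' : G), ?_, ?_⟩
  · have h := Rel.swap S.inv (g := (r' : G)) (f := 1) (by
      show δ (nu δ ((r' : G)⁻¹ * 1)) = nu δ ((r' : G)⁻¹ * 1)
      rw [mul_one]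
      refine S.near_t ?_
      rw [inv_inv]; exact h1)
    rwa [Rel, inv_one, one_mul] at h
  · have h := Rel.swap S.inv (g := (r' : G)) (f := (m : G)) (by
      refine S.near_t ?_
      simp only [InvMemClass.coe_inv, inv_inv, ht'def] at h2
      rw [show ((r' : G)⁻¹ * (m : G))⁻¹ * t * ((r' : G)⁻¹ * m) = (m : G)⁻¹ * ((r' : G) * t * (r' : G)⁻¹) * m by group]
      exact h2)
    exact h

/-- Two members commuting with one involution commute with a third. -/
theorem near {i g g' : G} (hi2 : i * i = 1) (hi1 : i ≠ 1) (hg : δ (g⁻¹ * i * g) = g⁻¹ * i * g)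
    (hg' : δ (g'⁻¹ * i * g') = g'⁻¹ * i * g') : ∃ f, Rel δ g f ∧ Rel δ g' f := by
  have h2 : g⁻¹ * i * g * (g⁻¹ * i * g) = 1 := by
    rw [show g⁻¹ * i * g * (g⁻¹ * i * g) = g⁻¹ * (i * i) * g by group, hi2]; group
  have hne : g⁻¹ * i * g ≠ 1 := fun e => hi1 (by
    calc i = g * (g⁻¹ * i * g) * g⁻¹ := by group
      _ = 1 := by rw [e, mul_one, mul_inv_cancel])
  have tcase : ∀ h : G, h * t * h⁻¹ = i → ∃ f, Rel δ g f ∧ Rel δ g' f := fun h e => by
    have hx : ∀ x : G, δ (x⁻¹ * i * x) = x⁻¹ * i * x → Rel δ x h := fun x hx => by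
      refine Rel.swap S.inv (S.near_t ?_)
      rwa [show (h⁻¹ * x)⁻¹ * t * (h⁻¹ * x) = x⁻¹ * (h * t * h⁻¹) * x by group, e]
    exact ⟨h, hx g hg, hx g' hg'⟩
  rcases S.fixed_involution hg h2 hne with ⟨x, hx, e⟩ | ⟨y, e | e⟩
  · obtain ⟨y, ey⟩ := S.conj_t_of_tr hx
    refine tcase (g * φ y) ?_
    rw [show g * φ y * t * (g * φ y)⁻¹ = g * (φ y * t * (φ y)⁻¹) * g⁻¹ by group, ey, e]; group
  · obtain ⟨q, -, eq'⟩ := S.exists_tz
    refine tcase (g * φ y * q) ?_
    rw [show g * φ y * q * t * (g * φ y * q)⁻¹ = g * (φ y * (q * t * q⁻¹) * (φ y)⁻¹) * g⁻¹ by group, eq', e]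
    group
  · set h := g * φ y with hdef
    have hhz : h * z * h⁻¹ = i := by
      rw [hdef, show g * φ y * z * (g * φ y)⁻¹ = g * (φ y * z * (φ y)⁻¹) * g⁻¹ by group, e]; group
    obtain ⟨y', hc⟩ := S.fixed_conj_z (g := h⁻¹ * g') (by
      rwa [show (h⁻¹ * g')⁻¹ * z * (h⁻¹ * g') = g'⁻¹ * (h * z * h⁻¹) * g' by group, hhz])
    obtain ⟨f, f1, f2⟩ := S.common_z ⟨h⁻¹ * g' * φ y', Subgroup.mem_centralizer_singleton_iff.2 hc.eq⟩
    refine ⟨h * f, ?_, ?_⟩
    · have := S.rel_mul_fixed (g := 1) (f := f) (by rwa [inv_one, one_mul]) y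
      rw [inv_one, one_mul] at this
      show δ (nu δ (g⁻¹ * (h * f))) = nu δ (g⁻¹ * (h * f))
      rwa [show g⁻¹ * (h * f) = φ y * f by rw [hdef]; group]
    · have := S.rel_mul_fixed (g := h⁻¹ * g' * φ y') (f := f) f2 y'
      show δ (nu δ (g'⁻¹ * (h * f))) = nu δ (g'⁻¹ * (h * f))
      rwa [show φ y' * ((h⁻¹ * g' * φ y')⁻¹ * f) = g'⁻¹ * (h * f) by group] at this

end Side

end CfsgLib.Sporadic.Fi24Recognition
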