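import Cfsg.Agent.Lib.Sporadic.Fi24Recognition.OrbitDefs

/-!
# Kernel checks on the orbits
-/

set_option autoImplicit false
set_option maxRecDepth 100000

namespace CfsgLib.Sporadic.Fi24Recognition

theorem base_ok : baseK = true := by decide +kernel
theorem step0 : stepK 0 4000 = true := by decide +kernel
theorem step1 : stepK 4000 4000 = true := by decide +kernel

end CfsgLib.Sporadic.Fi24Recognition
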