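import Cfsg.Agent.Lib.Sporadic.Fi24Recognition.OrbitData
import Cfsg.Agent.Lib.Sporadic.FiTransfer.Fi23Tri.Defs

/-!
# The checks on the orbits of the centraliser of the base transposition in `PΩ₈⁺(3)`
-/

set_option autoImplicit false

namespace CfsgLib.Sporadic.Fi24Recognition

open CosetCert CosetCert.Fi23Data CosetCert.Fi23P.OutFi
open Fi23Ten (imgS)
open Fi23Tri (gh gi pt1 outPt outHalf)

/-- A transposition paired with the base one. -/
def gx (k : ℕ) : ℕ := genIx.getD k 1080

/-- Its half. -/
def gy (k : ℕ) : List ℕ × ℕ := genHalf.getD k ([], 0)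

/-- A transposition in an involution. -/
def ix (k : ℕ) : ℕ := invIx.getD k 1080

/-- Its half. -/
def iy (k : ℕ) : List ℕ × ℕ := invHalf.getD k ([], 0)

/-- A transposition of the subgroup other than the base one commuting with it. -/
noncomputable def memK (i : ℕ) (h : List ℕ × ℕ) : Bool :=
  Nat.blt i 1080 && !(Nat.beq i (gi 0)) && halfK (pt1 i) h && Nat.beq (imgS [gh 0] (pt1 i)) (pt1 i)

/-- The involution of a representative fixes it and moves some point. -/
noncomputable def invK (c : ℕ) : Bool :=
  let e := invs.getD c ([], 0)
  let r := roots.getD c 31671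
  Nat.beq (Nat.mod e.1.length 2) 0 && Nat.blt r 31671 &&
    e.1.all (fun a => Nat.blt a invIx.length && e.1.all fun b =>
      Nat.beq (imgS [iy a] (pt1 (ix b))) (pt1 (ix b))) &&
    Nat.beq (imgS (e.1.map iy) r) r && Nat.blt e.2 31671 && !(Nat.beq (imgS (e.1.map iy) e.2) e.2)

/-- The transpositions used and the representatives. -/
noncomputable def baseK : Bool :=
  (List.range 7).all (fun k => memK (gx k) (gy k)) &&
    (List.range invIx.length).all (fun k => memK (ix k) (iy k)) &&
    (List.range 7).all invK &&
    (List.range 3).all (fun c => Nat.beq (imgS [gh 0] (roots.getD c 31671)) (roots.getD c 31671)) &&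
    (List.range 1080).any (fun i => Nat.beq (pt1 i) (roots.getD 3 31671)) &&
    Nat.beq (roots.getD 4 31671) outPt && Nat.beq (roots.getD 5 31671) (imgS [gh 0] outPt)

/-- The point at a place. -/
noncomputable def ordO (i : ℕ) : ℕ := ordTree.get 15 i

/-- The place of a point. -/
noncomputable def posO (v : ℕ) : ℕ := posTree.get 15 v

/-- The orbit of a place. -/
noncomputable def orbO (i : ℕ) : ℕ :=
  bif Nat.blt i 1 then 0 else bif Nat.blt i 352 then 1 else bif Nat.blt i 3511 then 2 else
  bif Nat.blt i 4239 then 3 else bif Nat.blt i 5319 then 4 else bif Nat.blt i 6399 then 5 else 6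

/-- A place holds a representative or follows from an earlier one of the same orbit. -/
noncomputable def stepK (s n : ℕ) : Bool :=
  Nat.rec (motive := fun _ => Bool) true
    (fun i ih =>
      let p := Nat.add s i
      let v := ordO p
      let e := parTree.get 19 p
      let m := Nat.div e 8
      let k := Nat.mod e 8
      let c := orbO p
      (Nat.blt v 31671 && Nat.beq (posO v) p &&
        ((Nat.beq (starts.getD c 31671) p && Nat.beq (roots.getD c 31671) v) ||
          (Nat.blt m p && Nat.blt k 7 && Nat.beq (orbO m) c &&
            Nat.beq (imgS [gh 0, gy k] (ordO m)) v))) && ih) n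

end CfsgLib.Sporadic.Fi24Recognition
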