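import Cfsg.Agent.Lib.Sporadic.Fi24Recognition.OrbitCheckA
import Cfsg.Agent.Lib.Sporadic.Fi24Recognition.OrbitCheckB
import Cfsg.Agent.Lib.Sporadic.Fi24Recognition.OrbitCheckC
import Cfsg.Agent.Lib.Sporadic.FiTransfer.Fi23Tri.Main

/-!
# The transpositions of Fi23 seen from the centraliser of the base transposition in `PΩ₈⁺(3)`

Every transposition commutes with an involution of this centraliser, and one that neither commutes with the base
transposition nor lies in `PΩ₈⁺(3):S₃` has more than 3366 images under it.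
-/

set_option autoImplicit false
set_option maxRecDepth 100000

open Cfsg.Spor

namespace CfsgLib.Sporadic.Fi24Recognition

open CosetCert CosetCert.Fi23Data CosetCert.Fi23P CosetCert.Fi23P.OutFi
open CosetCert.Fi23P.Two (el dp conj_dp comm_of_fix)
open Fi23Tri (aa bb xd L)
open FiTransfer23 (classTr)
open Fi23Ten (imgS mkPt mkPt_val sEl Good)

/-- The other transpositions of the subgroup commuting with the base one. -/
def LN : Set Fi23 := {x | x ∈ classTr ∧ x ∈ L ∧ x ≠ aa ∧ Commute x aa}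

/-- The group generated by their products with the base one. -/
noncomputable def H0 : Subgroup Fi23 := Subgroup.closure ((fun x => aa * x) '' LN)

theorem commute_aa_H0 {g : Fi23} (hg : g ∈ H0) : Commute g aa := by
  refine Subgroup.mem_centralizer_singleton_iff.1 ((Subgroup.closure_le _).2 ?_ hg)
  rintro _ ⟨x, hx, rfl⟩
  exact Subgroup.mem_centralizer_singleton_iff.2 ((Commute.refl aa).mul_left hx.2.2.2).eq

theorem H0_le : H0 ≤ L := (Subgroup.closure_le _).2 (by
  rintro _ ⟨x, hx, rfl⟩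
  exact mul_mem Fi23Tri.aa_mem hx.2.1)

theorem pair_mem {x y : Fi23} (hx : x ∈ LN) (hy : y ∈ LN) : x * y ∈ H0 := by
  have h := mul_mem (Subgroup.subset_closure ⟨x, hx, rfl⟩ : aa * x ∈ H0)
    (Subgroup.subset_closure ⟨y, hy, rfl⟩ : aa * y ∈ H0)
  rwa [show aa * x * (aa * y) = aa * (x * aa) * y by simp only [mul_assoc], hx.2.2.2.eq, ← mul_assoc,
    Fi23Tri.aa_sq, one_mul] at h

theorem prod_mem : ∀ l : List Fi23, (∀ x ∈ l, x ∈ LN) → l.length % 2 = 0 → l.prod ∈ H0
  | [], _, _ => one_mem _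
  | [a], _, h => by simp at h
  | a :: b :: l, hl, h => by
    rw [List.prod_cons, List.prod_cons, ← mul_assoc]
    refine mul_mem (pair_mem (hl a (by simp)) (hl b (by simp)))
      (prod_mem l (fun x hx => hl x (by simp [hx])) ?_)
    simp only [List.length_cons] at h
    omega

theorem prod_sq {l : List Fi23} (h2 : ∀ x ∈ l, x * x = 1) (hc : ∀ x ∈ l, ∀ y ∈ l, Commute x y) :
    l.prod * l.prod = 1 := by
  induction l with
  | nil => simp
  | cons a l ih =>
    have hcp : Commute a l.prod := Commute.list_prod_right _ _ fun y hy => hc a (by simp) y (by simp [hy])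
    have hi := ih (fun x hx => h2 x (by simp [hx])) fun x hx y hy => hc x (by simp [hx]) y (by simp [hy])
    rw [List.prod_cons, show a * l.prod * (a * l.prod) = a * (l.prod * a) * l.prod by group, ← hcp.eq,
      show a * (a * l.prod) * l.prod = a * a * (l.prod * l.prod) by group, hi, h2 a (by simp), one_mul]

theorem gh0 : Good [Fi23Tri.gh 0] ∧ sEl [Fi23Tri.gh 0] = aa := Fi23Tri.gh_spec 0

theorem memK_spec {i : ℕ} {h : List ℕ × ℕ} (hK : memK i h = true) :
    i < 1080 ∧ Good [h] ∧ sEl [h] = dp (mkPt (Fi23Tri.pt1 i)) ∧ dp (mkPt (Fi23Tri.pt1 i)) ∈ LN := by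
  simp only [memK, Bool.and_eq_true, Nat.blt_eq, Bool.not_eq_true', Nat.beq_eq] at hK
  obtain ⟨⟨⟨hi, hne⟩, hh⟩, hfix⟩ := hK
  have hp : Fi23Tri.pt1 i < 31671 := (Fi23Tri.cd_spec hi).2.2.2.2
  obtain ⟨hg, hs⟩ := Fi23Ten.dp_of_pts hp hh
  have hx : dp (mkPt (Fi23Tri.pt1 i)) = xd ⟨i, hi⟩ := rfl
  refine ⟨hi, hg, hs, Fi23Ten.dp_mem_classTr23 _, hx ▸ Fi23Tri.xd_mem_L _, fun e => ?_, (comm_of_fix ?_).symm⟩
  · rw [hx] at e
    have := congrArg Fin.val (Fi23Tri.xd_injective e : (⟨i, hi⟩ : Fin 1080) = Fi23Tri.gn 0)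
    exact absurd (Nat.beq_eq ▸ this : Nat.beq i (Fi23Tri.gi 0) = true) (by rw [hne]; decide)
  · rw [← gh0.2]
    exact Fi23Ten.hom_sEl_eq gh0.1 (by rw [mkPt_val hp]; exact hfix)

theorem gen_spec {k : ℕ} (hk : k < 7) :
    Good [gy k] ∧ sEl [gy k] = dp (mkPt (Fi23Tri.pt1 (gx k))) ∧ dp (mkPt (Fi23Tri.pt1 (gx k))) ∈ LN := by
  have h := base_ok
  simp only [baseK, Bool.and_eq_true, List.all_eq_true, List.mem_range] at h
  exact (memK_spec (h.1.1.1.1.1.1 k hk)).2

theorem inv_spec {k : ℕ} (hk : k < invIx.length) :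
    Good [iy k] ∧ sEl [iy k] = dp (mkPt (Fi23Tri.pt1 (ix k))) ∧ dp (mkPt (Fi23Tri.pt1 (ix k))) ∈ LN ∧
      Fi23Tri.pt1 (ix k) < 31671 := by
  have h := base_ok
  simp only [baseK, Bool.and_eq_true, List.all_eq_true, List.mem_range] at h
  obtain ⟨hi, r⟩ := memK_spec (h.1.1.1.1.1.2 k hk)
  exact ⟨r.1, r.2.1, r.2.2, (Fi23Tri.cd_spec hi).2.2.2.2⟩

/-- The representative of an orbit. -/
noncomputable def rootPt (c : ℕ) : Fin table.N := mkPt (roots.getD c 31671)

theorem inv_root {c : ℕ} (hc : c < 7) :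
    roots.getD c 31671 < 31671 ∧ ∃ s ∈ H0, s * s = 1 ∧ s ≠ 1 ∧ Commute s (dp (rootPt c)) := by
  have h := base_ok
  simp only [baseK, Bool.and_eq_true, List.all_eq_true, List.mem_range] at h
  have hK := h.1.1.1.1.2 c hc
  simp only [invK, Bool.and_eq_true, List.all_eq_true, Nat.blt_eq, Nat.beq_eq, Bool.not_eq_true'] at hK
  obtain ⟨⟨⟨⟨⟨heven, hr⟩, hall⟩, hfix⟩, hq⟩, hmv⟩ := hK
  set W := (invs.getD c ([], 0)).1 with hW
  set q := (invs.getD c ([], 0)).2 with hq'
  set l := W.map fun a => dp (mkPt (Fi23Tri.pt1 (ix a))) with hl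
  have hgood : Good (W.map iy) := by
    intro h hh
    obtain ⟨a, ha, rfl⟩ := List.mem_map.1 hh
    exact (inv_spec (hall a ha).1).1 _ (List.mem_singleton.2 rfl)
  have hsl : sEl (W.map iy) = l.prod := by
    rw [sEl, List.map_map, hl]
    refine congrArg List.prod (List.map_congr_left fun a ha => ?_)
    exact (Fi23Ten.sEl_single _).symm.trans (inv_spec (hall a ha).1).2.1
  refine ⟨hr, l.prod, prod_mem l ?_ (by rw [hl, List.length_map]; exact heven), prod_sq ?_ ?_, ?_, comm_of_fix ?_⟩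
  · intro x hx
    obtain ⟨a, ha, rfl⟩ := List.mem_map.1 hx
    exact (inv_spec (hall a ha).1).2.2.1
  · intro x hx
    obtain ⟨a, ha, rfl⟩ := List.mem_map.1 hx
    exact dp_sq _
  · intro x hx y hy
    obtain ⟨a, ha, rfl⟩ := List.mem_map.1 hx
    obtain ⟨b, hb, rfl⟩ := List.mem_map.1 hy
    refine comm_of_fix ?_
    rw [← (inv_spec (hall a ha).1).2.1]
    refine Fi23Ten.hom_sEl_eq (inv_spec (hall a ha).1).1 ?_
    rw [mkPt_val (inv_spec (hall b hb).1).2.2.2]
    exact (hall a ha).2 b hb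
  · intro e
    have h1 := Fi23Ten.hom_sEl hgood (mkPt q)
    rw [hsl, e, map_one, Equiv.Perm.one_apply, mkPt_val hq] at h1
    exact absurd (Nat.beq_eq ▸ h1.symm : Nat.beq (imgS (W.map iy) q) q = true) (by rw [hmv]; decide)
  · rw [← hsl]
    exact Fi23Ten.hom_sEl_eq hgood (by rw [rootPt, mkPt_val hr]; exact hfix)

theorem root_kind {c : ℕ} (hc : c < 6) :
    Commute aa (dp (rootPt c)) ∨ dp (rootPt c) ∈ L := by
  have h := base_ok
  simp only [baseK, Bool.and_eq_true, List.all_eq_true, List.any_eq_true, List.mem_range, Nat.beq_eq] at h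
  by_cases h3 : c < 3
  · left
    refine comm_of_fix ?_
    rw [← gh0.2]
    exact Fi23Ten.hom_sEl_eq gh0.1 (by rw [rootPt, mkPt_val (inv_root (by omega)).1]; exact h.1.1.1.2 c h3)
  right
  rcases (by omega : c = 3 ∨ c = 4 ∨ c = 5) with rfl | rfl | rfl
  · obtain ⟨i, hi, he⟩ := h.1.1.2
    rw [rootPt, ← he]
    exact Fi23Tri.xd_mem_L ⟨i, hi⟩
  · rw [rootPt, h.1.2]
    exact Fi23Tri.bb_mem
  · have e : hom aa (mkPt Fi23Tri.outPt) = rootPt 5 := by
      rw [← gh0.2]
      refine Fi23Ten.hom_sEl_eq gh0.1 ?_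
      rw [mkPt_val Fi23Tri.out_pt.2.2, rootPt, mkPt_val (inv_root (by norm_num)).1, h.2]
    rw [← e, ← conj_dp]
    exact mul_mem (mul_mem Fi23Tri.aa_mem Fi23Tri.bb_mem) (inv_mem Fi23Tri.aa_mem)

theorem step_all {p : ℕ} (hp : p < 31671) :
    ordO p < 31671 ∧ posO (ordO p) = p ∧
      ((starts.getD (orbO p) 31671 = p ∧ roots.getD (orbO p) 31671 = ordO p) ∨
        ∃ m < p, ∃ k < 7, orbO m = orbO p ∧ imgS [Fi23Tri.gh 0, gy k] (ordO m) = ordO p) := by
  have key : ∀ n s, stepK s n = true → ∀ p, s ≤ p → p < s + n →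
      ordO p < 31671 ∧ posO (ordO p) = p ∧
      ((starts.getD (orbO p) 31671 = p ∧ roots.getD (orbO p) 31671 = ordO p) ∨
        ∃ m < p, ∃ k < 7, orbO m = orbO p ∧ imgS [Fi23Tri.gh 0, gy k] (ordO m) = ordO p) := by
    intro n
    induction n with
    | zero => intro s _ p h1 h2; omega
    | succ n ih =>
      intro s h p h1 h2
      unfold stepK at h
      simp only [Nat.add_eq, Bool.and_eq_true, Bool.or_eq_true, Nat.blt_eq] at h
      rcases Nat.lt_or_eq_of_le (Nat.le_of_lt_succ h2) with h' | rfl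
      · exact ih s h.2 p h1 h'
      · obtain ⟨⟨⟨hv, hp⟩, hor⟩, -⟩ := h
        refine ⟨hv, Nat.eq_of_beq_eq_true hp, ?_⟩
        rcases hor with ⟨h0, h0'⟩ | ⟨⟨⟨hm, hk⟩, hc⟩, hr⟩
        · exact Or.inl ⟨Nat.eq_of_beq_eq_true h0, Nat.eq_of_beq_eq_true h0'⟩
        · exact Or.inr ⟨_, hm, _, hk, Nat.eq_of_beq_eq_true hc, Nat.eq_of_beq_eq_true hr⟩
  by_cases c0 : p < 4000
  · exact key 4000 0 step0 p (by omega) (by omega)
  by_cases c1 : p < 8000
  · exact key 4000 4000 step1 p (by omega) (by omega)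
  by_cases c2 : p < 12000
  · exact key 4000 8000 step2 p (by omega) (by omega)
  by_cases c3 : p < 16000
  · exact key 4000 12000 step3 p (by omega) (by omega)
  by_cases c4 : p < 20000
  · exact key 4000 16000 step4 p (by omega) (by omega)
  by_cases c5 : p < 24000
  · exact key 4000 20000 step5 p (by omega) (by omega)
  by_cases c6 : p < 28000
  · exact key 4000 24000 step6 p (by omega) (by omega)
  exact key 3671 28000 step7 p (by omega) (by omega)

theorem orbO_lt (p : ℕ) : orbO p < 7 := by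
  unfold orbO
  simp only [cond_eq_ite]
  split_ifs <;> norm_num

/-- The point at a place. -/
noncomputable def placePt (p : ℕ) : Fin table.N := mkPt (ordO p)

theorem reach : ∀ p, p < 31671 → ∃ h ∈ H0, hom h (rootPt (orbO p)) = placePt p := by
  intro p
  induction p using Nat.strong_induction_on with
  | _ p ih =>
    intro hp
    obtain ⟨hv, -, ⟨-, hr⟩ | ⟨m, hm, k, hk, hc, he⟩⟩ := step_all hp
    · exact ⟨1, one_mem _, by rw [map_one, Equiv.Perm.one_apply, rootPt, hr]; rfl⟩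
    obtain ⟨h, hh, e⟩ := ih m hm (by omega)
    obtain ⟨hg, hs, hN⟩ := gen_spec hk
    refine ⟨aa * dp (mkPt (Fi23Tri.pt1 (gx k))) * h, mul_mem (Subgroup.subset_closure ⟨_, hN, rfl⟩) hh, ?_⟩
    rw [map_mul, Equiv.Perm.mul_apply, ← hc, e, ← hs, ← gh0.2, ← Fi23Ten.sEl_append]
    refine Fi23Ten.hom_sEl_eq (gh0.1.append hg) ?_
    rw [placePt, placePt, mkPt_val hv, mkPt_val (step_all (hm.trans hp)).1]
    exact he

theorem pos_lt (u : Fin table.N) : posO (u : ℕ) < 31671 ∧ placePt (posO (u : ℕ)) = u := by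
  let f : Fin 31671 → Fin table.N := fun p => placePt p
  have hinj : Function.Injective f := fun a b e => by
    have e1 := congrArg (fun w : Fin table.N => posO (w : ℕ)) e
    simp only [f, placePt] at e1
    rw [mkPt_val (step_all a.2).1, mkPt_val (step_all b.2).1, (step_all a.2).2.1, (step_all b.2).2.1] at e1
    exact Fin.ext e1
  obtain ⟨p, hp⟩ := (Fintype.bijective_iff_injective_and_card f).2 ⟨hinj, rfl⟩ |>.2 u
  have e : posO (u : ℕ) = p := by
    rw [← hp]
    show posO ((mkPt (ordO p) : Fin table.N) : ℕ) = p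
    rw [mkPt_val (step_all p.2).1, (step_all p.2).2.1]
  rw [e]
  exact ⟨p.2, hp⟩

theorem reach_root {x : Fi23} (hx : x ∈ classTr) :
    ∃ c < 7, ∃ h ∈ H0, h * dp (rootPt c) * h⁻¹ = x := by
  obtain ⟨u, rfl⟩ := Fi23Ten.mem_classTr23.1 hx
  obtain ⟨hlt, e⟩ := pos_lt u
  obtain ⟨h, hh, eh⟩ := reach _ hlt
  exact ⟨_, orbO_lt _, h, hh, by rw [conj_dp, eh, e]⟩

/-- Every transposition commutes with an involution of the group. -/
theorem exists_involution {x : Fi23} (hx : x ∈ classTr) :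
    ∃ s ∈ H0, s * s = 1 ∧ s ≠ 1 ∧ Commute s x := by
  obtain ⟨c, hc, h, hh, rfl⟩ := reach_root hx
  obtain ⟨-, s, hs, h2, h1, hsc⟩ := inv_root hc
  refine ⟨h * s * h⁻¹, mul_mem (mul_mem hh hs) (inv_mem hh), ?_, fun e => h1 (conj_eq_one_iff.1 e),
    (Commute.conj_iff h).2 hsc⟩
  rw [show h * s * h⁻¹ * (h * s * h⁻¹) = h * (s * s) * h⁻¹ by group, h2, mul_one, mul_inv_cancel]

theorem orbO_six {p : ℕ} (h : 6399 ≤ p) : orbO p = 6 := by
  unfold orbO
  simp only [cond_eq_ite, Nat.blt_eq]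
  split_ifs <;> omega

/-- A stable set is small only on the known transpositions. -/
theorem kind {x : Fi23} (hx : x ∈ classTr) {S : Set Fi23} (hS : ∀ h ∈ H0, ∀ y ∈ S, h * y * h⁻¹ ∈ S)
    (hxS : x ∈ S) (hsmall : S.ncard ≤ 3366) : Commute aa x ∨ x ∈ L := by
  haveI := CosetCert.Fi23P.finite
  obtain ⟨c, hc, h, hh, rfl⟩ := reach_root hx
  by_cases h6 : c < 6
  · rcases root_kind h6 with e | e
    · left
      have := (Commute.conj_iff h).2 e
      rwa [(commute_aa_H0 hh).eq, mul_inv_cancel_right] at this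
    · exact Or.inr (mul_mem (mul_mem (H0_le hh) e) (inv_mem (H0_le hh)))
  exfalso
  obtain rfl : c = 6 := by omega
  have hr : dp (rootPt 6) ∈ S := by
    have := hS h⁻¹ (inv_mem hh) _ hxS
    rwa [inv_inv, show h⁻¹ * (h * dp (rootPt 6) * h⁻¹) * h = dp (rootPt 6) by group] at this
  let f : Fin 3367 → Fi23 := fun i => dp (placePt (6399 + i))
  have hinj : Function.Injective f := fun a b e => by
    have e1 := congrArg (fun w : Fin table.N => posO (w : ℕ)) (dp_injective e)
    simp only [placePt] at e1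
    rw [mkPt_val (step_all (by omega)).1, mkPt_val (step_all (by omega)).1,
      (step_all (by omega)).2.1, (step_all (by omega)).2.1] at e1
    exact Fin.ext (by omega)
  have hsub : Set.range f ⊆ S := by
    rintro _ ⟨i, rfl⟩
    obtain ⟨g, hg, eg⟩ := reach (6399 + i) (by omega)
    rw [orbO_six (by omega)] at eg
    show dp _ ∈ S
    rw [← eg, ← conj_dp]
    exact hS g hg _ hr
  have := (Set.ncard_le_ncard hsub).trans hsmall
  rw [Set.ncard_range_of_injective hinj, Nat.card_fin] at this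
  omega

end CfsgLib.Sporadic.Fi24Recognition
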